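import Groth.Agent.CotTLib.Lci
import Mathlib

/-!
# If `T²` vanishes then a minimal family of generators is a regular sequence
-/

universe u v w t m

open TensorProduct RingTheory.Sequence IsLocalRing

noncomputable section

namespace Groth.Agent.CotTLib

open CotT

section Koszul

variable {R : Type u} [CommRing R] {n : ℕ}

/-- Restriction of a vector to the first `n` coordinates. -/
def dropLast : (Fin (n + 1) →₀ R) →ₗ[R] (Fin n →₀ R) :=
  Finsupp.lcomapDomain Fin.castSucc (Fin.castSucc_injective n)

theorem dropLast_apply (x : Fin (n + 1) →₀ R) (i : Fin n) : dropLast x i = x i.castSucc := rfl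

theorem exists_of_mem_trivOf (r : Fin (n + 1) → R) (x : Fin (n + 1) →₀ R) (hx : x ∈ trivOf r) :
    ∃ c, dropLast x - r (Fin.last n) • c ∈ trivOf (r ∘ Fin.castSucc) ∧
      x (Fin.last n) = -Finsupp.linearCombination R (r ∘ Fin.castSucc) c := by
  classical
  induction hx using Submodule.span_induction with
  | mem z hz =>
    obtain ⟨⟨i, j⟩, rfl⟩ := hz
    have hd : ∀ k : Fin n, dropLast (Finsupp.single k.castSucc (1 : R)) = Finsupp.single k 1 := fun k =>
      Finsupp.ext fun l => by simp [dropLast_apply, Finsupp.single_apply, Fin.castSucc_inj]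
    have hl : dropLast (Finsupp.single (Fin.last n) (1 : R)) = 0 :=
      Finsupp.ext fun l => by simp [dropLast_apply, Finsupp.single_apply, (Fin.castSucc_lt_last l).ne']
    rcases Fin.eq_castSucc_or_eq_last i with ⟨a, rfl⟩ | rfl <;>
      rcases Fin.eq_castSucc_or_eq_last j with ⟨b, rfl⟩ | rfl
    · refine ⟨0, ?_, ?_⟩
      · rw [map_sub, map_smul, map_smul, hd, hd, smul_zero, sub_zero]
        exact Submodule.subset_span ⟨(a, b), rfl⟩
      · simp [Finsupp.single_apply, (Fin.castSucc_lt_last _).ne]
    · refine ⟨-Finsupp.single a 1, ?_, ?_⟩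
      · rw [map_sub, map_smul, map_smul, hd, hl, smul_zero, smul_neg, zero_sub, sub_neg_eq_add, neg_add_cancel]
        exact zero_mem _
      · simp [Finsupp.single_apply, (Fin.castSucc_lt_last _).ne]
    · refine ⟨Finsupp.single b 1, ?_, ?_⟩
      · rw [map_sub, map_smul, map_smul, hd, hl, smul_zero, sub_zero, sub_self]
        exact zero_mem _
      · simp [Finsupp.single_apply, (Fin.castSucc_lt_last _).ne]
    · exact ⟨0, by simp, by simp⟩
  | zero => exact ⟨0, by simp, by simp⟩
  | add y z _ _ hy hz =>
    obtain ⟨c, hc, hc'⟩ := hy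
    obtain ⟨d, hd, hd'⟩ := hz
    refine ⟨c + d, ?_, by rw [Finsupp.add_apply, hc', hd', map_add]; ring⟩
    rw [map_add, smul_add, add_sub_add_comm]
    exact add_mem hc hd
  | smul e y _ hy =>
    obtain ⟨c, hc, hc'⟩ := hy
    refine ⟨e • c, ?_, by rw [Finsupp.smul_apply, hc', map_smul, smul_neg]⟩
    rw [map_smul, smul_comm, ← smul_sub]
    exact Submodule.smul_mem _ _ hc

/-- A family in the maximal ideal all whose relations are trivial is a weakly regular sequence. -/
theorem isWeaklyRegular_of_trivOf [IsLocalRing R] [IsNoetherianRing R] : ∀ {n : ℕ} (r : Fin n → R),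
    (∀ i, r i ∈ maximalIdeal R) →
    (∀ x, Finsupp.linearCombination R r x = 0 → x ∈ trivOf r) → IsWeaklyRegular R (List.ofFn r)
  | 0, r, _, _ => by rw [List.ofFn_zero]; exact IsWeaklyRegular.nil R R
  | n + 1, r, hm, H => by
    classical
    let r' := r ∘ Fin.castSucc
    let ext : (Fin n →₀ R) →ₗ[R] (Fin (n + 1) →₀ R) := Finsupp.lmapDomain R R Fin.castSucc
    have hext : ∀ z, Finsupp.linearCombination R r (ext z) = Finsupp.linearCombination R r' z := fun z =>
      Finsupp.linearCombination_mapDomain R _ z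
    have hdrop : ∀ z, dropLast (ext z) = z := fun z => Finsupp.ext fun i =>
      Finsupp.mapDomain_apply (Fin.castSucc_injective n) z i
    have hlast : ∀ z, ext z (Fin.last n) = 0 := fun z =>
      Finsupp.mapDomain_notin_range z _ fun ⟨i, hi⟩ => (Fin.castSucc_lt_last i).ne hi
    have hle : LinearMap.ker (Finsupp.linearCombination R r') ≤
        trivOf r' ⊔ maximalIdeal R • LinearMap.ker (Finsupp.linearCombination R r') := by
      intro z hz
      obtain ⟨c, hc, hc'⟩ := exists_of_mem_trivOf r (ext z) (H _ ((hext z).trans hz))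
      rw [hdrop] at hc
      rw [hlast, eq_comm, neg_eq_zero] at hc'
      rw [← sub_add_cancel z (r (Fin.last n) • c)]
      exact add_mem (Submodule.mem_sup_left hc) (Submodule.mem_sup_right (Submodule.smul_mem_smul (hm _) hc'))
    have H' : ∀ x, Finsupp.linearCombination R r' x = 0 → x ∈ trivOf r' := fun x hx =>
      Submodule.le_of_le_smul_of_le_jacobson_bot (IsNoetherian.noetherian _) (maximalIdeal_le_jacobson _) hle hx
    rw [List.ofFn_succ', List.concat_eq_append, isWeaklyRegular_append_iff]
    refine ⟨isWeaklyRegular_of_trivOf r' (fun i => hm _) H', (isWeaklyRegular_cons_iff _ _ _).2 ⟨?_, IsWeaklyRegular.nil _ _⟩⟩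
    refine IsSMulRegular.of_right_eq_zero_of_smul fun q hq => ?_
    obtain ⟨a, rfl⟩ := Submodule.Quotient.mk_surjective _ q
    rw [← Submodule.Quotient.mk_smul, Submodule.Quotient.mk_eq_zero] at hq
    rw [Submodule.Quotient.mk_eq_zero]
    have hJ : (Ideal.ofList (List.ofFn fun i => r i.castSucc) • ⊤ : Submodule R R) =
        Submodule.span R (Set.range r') := by
      rw [smul_eq_mul, Ideal.mul_top, Ideal.ofList]
      congr 1
      ext y
      simp [List.mem_ofFn, r']
    rw [hJ] at hq ⊢
    obtain ⟨b, hb⟩ := Finsupp.mem_span_range_iff_exists_finsupp.1 hq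
    have hrel : Finsupp.linearCombination R r (ext b - Finsupp.single (Fin.last n) a) = 0 := by
      rw [map_sub, hext, Finsupp.linearCombination_single, Finsupp.linearCombination_apply, hb, smul_eq_mul,
        smul_eq_mul, mul_comm, sub_self]
    obtain ⟨c, -, hc'⟩ := exists_of_mem_trivOf r _ (H _ hrel)
    rw [Finsupp.sub_apply, hlast, Finsupp.single_eq_same, zero_sub, neg_inj] at hc'
    rw [hc', Finsupp.mem_span_range_iff_exists_finsupp]
    exact ⟨c, (Finsupp.linearCombination_apply _ _).symm⟩

end Koszul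

variable {A : Type u} {B : Type v} {ι : Type w} {σ : Type t}
variable [CommRing A] [CommRing B] [Algebra A B]
variable {P : Algebra.Presentation A B ι σ}

theorem smul_mem_trivRel {c : P.toExtension.Ring} (hc : c ∈ P.toExtension.ker) (q : relKer P) :
    c • (q : relMod P) ∈ trivRel P := by
  obtain ⟨u, rfl⟩ : c ∈ LinearMap.range (jmap P) := by rw [range_jmap]; exact hc
  refine Submodule.subset_span ⟨u, q, ?_⟩
  rw [show jmap P (q : relMod P) = 0 from q.2, zero_smul, sub_zero]

/-- `L₂ = 0` means that all relations are trivial. -/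
theorem relKer_le_trivRel_of_subsingleton [Subsingleton (L2 P)] : relKer P ≤ trivRel P := by
  intro x hx
  let q : relKer P := ⟨x, hx⟩
  have h : ((1 : B) ⊗ₜ[P.toExtension.Ring] q) ∈ LinearMap.range ((trivRelKer P).subtype.baseChange B) :=
    (Submodule.Quotient.mk_eq_zero _).1 (Subsingleton.elim (toL2 P q) 0)
  obtain ⟨y, hy⟩ := h
  obtain ⟨t, rfl⟩ := one_tmul_surjective _ y
  rw [LinearMap.baseChange_tmul, Submodule.subtype_apply] at hy
  let e := Ideal.quotientKerAlgEquivOfSurjective (f := Algebra.ofId P.toExtension.Ring B) algebraMap_surjective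
  have h2 := congrArg (fun z => quotTensorEquivQuotSMul (relKer P) _ (LinearMap.rTensor _ e.symm.toLinearMap z)) hy
  simp only [LinearMap.rTensor_tmul] at h2
  rw [AlgEquiv.toLinearMap_apply, map_one] at h2
  have h3 : ∀ n : relKer P, quotTensorEquivQuotSMul (relKer P) (RingHom.ker (Algebra.ofId P.toExtension.Ring B))
      ((1 : P.toExtension.Ring ⧸ RingHom.ker (Algebra.ofId P.toExtension.Ring B)) ⊗ₜ[P.toExtension.Ring] n) =
      Submodule.Quotient.mk n := fun n =>
    (quotTensorEquivQuotSMul_mk_tmul _ (1 : P.toExtension.Ring) n).trans (congrArg _ (one_smul _ n))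
  have h4 := (Submodule.Quotient.eq _).1 ((h3 _).symm.trans (h2.trans (h3 _)))
  have h5 : ((t : relKer P) : relMod P) - x ∈ trivRel P :=
    Submodule.smul_induction_on (p := fun n : relKer P => (n : relMod P) ∈ trivRel P) h4
      (fun c hc n _ => smul_mem_trivRel hc n) (fun a b => add_mem)
  exact (Submodule.sub_mem_iff_right _ t.2).1 h5

theorem trivRel_le_trivOf : trivRel P ≤ trivOf (rel P) := by
  refine Submodule.span_le.2 ?_
  rintro _ ⟨a, b, rfl⟩
  exact smul_sub_smul_mem_trivOf (rel P) a b

theorem toL1_eq_sum [Fintype σ] (f : relMod P) :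
    toL1 P f = ∑ s, algebraMap P.toExtension.Ring B (f s) • toL1 P (Finsupp.single s 1) := by
  conv_lhs => rw [← Finsupp.univ_sum_single f, map_sum]
  exact Finset.sum_congr rfl fun s _ => by rw [← Finsupp.smul_single_one, toL1_smul]

/-- For a presentation by a minimal finite family of relations in a Noetherian local ring, `T² = 0` forces
`L₂ = 0`. -/
theorem subsingleton_L2_of_T2 [IsLocalRing B] [Finite σ] [IsNoetherianRing P.toExtension.Ring]
    (hmin : ∀ (q : relKer P) s, algebraMap P.toExtension.Ring B ((q : relMod P) s) ∈ maximalIdeal B)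
    [Subsingleton (T2 P (L2 P))] : Subsingleton (L2 P) := by
  have := Fintype.ofFinite σ
  obtain ⟨φ, hφ⟩ := subsingleton_T2_iff.1 ‹_› (LinearMap.id : L2 P →ₗ[B] L2 P)
  obtain ⟨G, hG⟩ := IsNoetherian.noetherian (relKer P)
  have hfg : (⊤ : Submodule B (L2 P)).FG := by
    classical
    have hfgR : Module.Finite P.toExtension.Ring (relKer P) := Module.Finite.of_fg ⟨G, hG⟩
    exact Module.Finite.fg_top (R := B) (M := L2 P)
  have hle : (⊤ : Submodule B (L2 P)) ≤ maximalIdeal B • (⊤ : Submodule B (L2 P)) := by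
    intro z _
    obtain ⟨q, rfl⟩ := toL2_surjective z
    rw [show toL2 P q = φ (d2 P (toL2 P q)) from (LinearMap.congr_fun hφ (toL2 P q)).symm, d2_toL2, toL1_eq_sum,
      map_sum]
    refine Submodule.sum_mem _ fun s _ => ?_
    rw [map_smul]
    exact Submodule.smul_mem_smul (hmin q s) Submodule.mem_top
  exact Submodule.subsingleton_iff B |>.1 (subsingleton_of_bot_eq_top
    (Submodule.eq_bot_of_le_smul_of_le_jacobson_bot _ _ hfg hle (maximalIdeal_le_jacobson _)).symm)

end Groth.Agent.CotTLib

namespace Groth.Agent.CotTLib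

theorem mapRange_mem_trivOf {R S : Type*} [CommRing R] [CommRing S] {σ : Type*} (φ : R →+* S) (r : σ → R)
    {x : σ →₀ R} (hx : x ∈ trivOf r) : Finsupp.mapRange φ (map_zero φ) x ∈ trivOf (φ ∘ r) := by
  induction hx using Submodule.span_induction with
  | mem z hz =>
    obtain ⟨⟨s, s'⟩, rfl⟩ := hz
    refine Submodule.subset_span ⟨(s, s'), Finsupp.ext fun i => ?_⟩
    classical
    simp only [Finsupp.mapRange_apply, Finsupp.sub_apply, Finsupp.smul_apply, Finsupp.single_apply, smul_eq_mul,
      map_sub, map_mul, Function.comp_apply]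
    split_ifs <;> simp
  | zero => simp
  | add a b _ _ ha hb => rw [Finsupp.mapRange_add (map_add φ)]; exact add_mem ha hb
  | smul e a _ ha =>
    rw [show Finsupp.mapRange φ (map_zero φ) (e • a) = φ e • Finsupp.mapRange φ (map_zero φ) a from
      Finsupp.ext fun i => by simp]
    exact Submodule.smul_mem _ _ ha

/-- A minimal family of generators of an ideal of a Noetherian local ring with vanishing `T²` of the quotient is
a regular sequence. -/
theorem isWeaklyRegular_of_T2 {A : Type u} [CommRing A] [IsLocalRing A] [IsNoetherianRing A] (I : Ideal A)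
    (hI : I ≠ ⊤) {n : ℕ} (f : Fin n → A) (hf : Ideal.span (Set.range f) = I) (hn : n ≤ Submodule.spanFinrank I)
    (hT : ∀ (M : Type u) [AddCommGroup M] [Module (A ⧸ I) M], Subsingleton (CotT.T2 (CotT.canon A (A ⧸ I)) M))
    (hcongr : ∀ {σ : Type} (P : Algebra.Presentation A (A ⧸ I) PEmpty.{u + 1} σ) (M : Type u) [AddCommGroup M]
      [Module (A ⧸ I) M], Subsingleton (CotT.T2 (CotT.canon A (A ⧸ I)) M) → Subsingleton (CotT.T2 P M)) :
    RingTheory.Sequence.IsWeaklyRegular A (List.ofFn f) := by
  classical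
  have : Nontrivial (A ⧸ I) := Ideal.Quotient.nontrivial_iff.2 hI
  have : IsLocalRing (A ⧸ I) := .of_surjective' (Ideal.Quotient.mk I) Ideal.Quotient.mk_surjective
  have hC : ∀ x : MvPolynomial PEmpty.{u + 1} A, ∃ a, MvPolynomial.C a = x := fun x =>
    ⟨_, (MvPolynomial.eq_C_of_isEmpty x).symm⟩
  let G : Algebra.Generators A (A ⧸ I) PEmpty.{u + 1} := Algebra.Generators.ofSurjective PEmpty.elim fun b => by
    obtain ⟨a, rfl⟩ := Ideal.Quotient.mk_surjective b
    exact ⟨MvPolynomial.C a, MvPolynomial.aeval_C _ _⟩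
  have hker : G.ker = Ideal.span (Set.range fun i => (MvPolynomial.C (f i) : MvPolynomial PEmpty.{u + 1} A)) := by
    rw [G.ker_eq_ker_aeval_val]
    ext x
    obtain ⟨a, rfl⟩ := hC x
    rw [RingHom.mem_ker, MvPolynomial.aeval_C, Ideal.Quotient.algebraMap_eq, Ideal.Quotient.eq_zero_iff_mem, ← hf,
      show (fun i => (MvPolynomial.C (f i) : MvPolynomial PEmpty.{u + 1} A)) = MvPolynomial.C ∘ f from rfl,
      Set.range_comp, ← Ideal.map_span]
    refine ⟨fun h => Ideal.mem_map_of_mem _ h, fun h => ?_⟩
    obtain ⟨a', ha', he⟩ := (Ideal.mem_map_iff_of_surjective _ hC).1 h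
    exact MvPolynomial.C_injective _ _ he ▸ ha'
  let P : Algebra.Presentation A (A ⧸ I) PEmpty.{u + 1} (Fin n) :=
    { toGenerators := G
      relation := fun i => MvPolynomial.C (f i)
      span_range_relation_eq_ker := hker.symm }
  let ev : MvPolynomial PEmpty.{u + 1} A →+* A := (MvPolynomial.aeval (R := A) (PEmpty.elim : PEmpty.{u + 1} → A)).toRingHom
  have hevC : ∀ a, ev (MvPolynomial.C a) = a := fun a => MvPolynomial.aeval_C _ _
  have hev : ev ∘ (fun i => (MvPolynomial.C (f i) : MvPolynomial PEmpty.{u + 1} A)) = f := funext fun i => hevC _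
  have : IsNoetherianRing P.toExtension.Ring :=
    inferInstanceAs (IsNoetherianRing (MvPolynomial PEmpty.{u + 1} A))
  have hmin : ∀ (q : CotT.relKer P) s,
      algebraMap P.toExtension.Ring (A ⧸ I) ((q : CotT.relMod P) s) ∈ IsLocalRing.maximalIdeal (A ⧸ I) := by
    intro q s
    obtain ⟨a, ha⟩ := hC ((q : CotT.relMod P) s)
    rw [show algebraMap P.toExtension.Ring (A ⧸ I) ((q : CotT.relMod P) s) = Ideal.Quotient.mk I a from
      ha ▸ MvPolynomial.aeval_C _ _, IsLocalRing.mem_maximalIdeal, mem_nonunits_iff]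
    intro hu
    have hau : IsUnit a := by
      by_contra h
      obtain ⟨b, hb⟩ := isUnit_iff_exists_inv.1 hu
      obtain ⟨b, rfl⟩ := Ideal.Quotient.mk_surjective b
      rw [← map_mul, ← map_one (Ideal.Quotient.mk I), Ideal.Quotient.eq] at hb
      exact (IsLocalRing.maximalIdeal.isMaximal A).ne_top ((Ideal.eq_top_iff_one _).2 (by
        simpa using sub_mem (Ideal.mul_mem_right b _ h) (IsLocalRing.le_maximalIdeal hI hb)))
    have h0 : ∑ i, ev ((q : CotT.relMod P) i) * f i = 0 := by
      have h : CotT.jmap P (q : CotT.relMod P) = 0 := q.2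
      rw [CotT.jmap, Finsupp.linearCombination_apply] at h
      have h' := (Finsupp.sum_fintype (q : CotT.relMod P) (fun i a => a • CotT.rel P i) (fun i => zero_smul _ _)).symm.trans h
      let q' : Fin n → MvPolynomial PEmpty.{u + 1} A := fun i => (q : CotT.relMod P) i
      have h'' : ∑ i, q' i * MvPolynomial.C (f i) = 0 := h'
      refine (Eq.trans ?_ ((congrArg ev h'').trans (map_zero ev)))
      rw [map_sum]
      exact Finset.sum_congr rfl fun i _ => ((map_mul ev (q' i) _).trans (by rw [hevC])).symm
    have hs : f s ∈ Ideal.span ((Finset.univ.erase s).image f : Set A) := by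
      rw [← Finset.add_sum_erase _ _ (Finset.mem_univ s), show ev ((q : CotT.relMod P) s) = a by rw [← ha]; exact hevC a,
        add_eq_zero_iff_eq_neg] at h0
      refine (Ideal.unit_mul_mem_iff_mem _ hau).1 (h0 ▸ neg_mem (Submodule.sum_mem _ fun i hi => ?_))
      exact Ideal.mul_mem_left _ _ (Ideal.subset_span (Finset.mem_image_of_mem f hi))
    have hle : I = Ideal.span ((Finset.univ.erase s).image f : Set A) := by
      refine le_antisymm (hf ▸ Ideal.span_le.2 ?_) (hf ▸ Ideal.span_mono (by simp))
      rintro _ ⟨i, rfl⟩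
      rcases eq_or_ne i s with rfl | hne
      · exact hs
      · exact Ideal.subset_span (Finset.mem_image_of_mem f (Finset.mem_erase.2 ⟨hne, Finset.mem_univ _⟩))
    have h1 := Submodule.spanFinrank_span_le_ncard_of_finite (R := A) ((Finset.univ.erase s).image f).finite_toSet
    rw [Set.ncard_coe_finset, show Submodule.span A ((Finset.univ.erase s).image f : Set A) = I from hle.symm] at h1
    have h2 : ((Finset.univ.erase s).image f).card ≤ n - 1 :=
      Finset.card_image_le.trans (by simp)
    have := s.isLt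
    omega
  have := hcongr P (CotT.L2 P) (hT _)
  have := subsingleton_L2_of_T2 hmin
  refine isWeaklyRegular_of_trivOf f (fun i => IsLocalRing.le_maximalIdeal hI (hf ▸ Ideal.subset_span ⟨i, rfl⟩)) fun x hx => ?_
  let x' : CotT.relMod P := Finsupp.mapRange MvPolynomial.C (map_zero _) x
  have hx' : x' ∈ CotT.relKer P := by
    show CotT.jmap P x' = 0
    rw [CotT.jmap, Finsupp.linearCombination_apply]
    refine (Finsupp.sum_mapRange_index (h := fun i a => a • CotT.rel P i) (fun i => zero_smul _ _)).trans ?_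
    rw [Finsupp.linearCombination_apply] at hx
    refine (Eq.trans ?_ ((congrArg MvPolynomial.C hx).trans (map_zero MvPolynomial.C)))
    rw [map_finsuppSum]
    exact Finsupp.sum_congr fun i _ => (map_mul MvPolynomial.C _ _).symm
  have h := mapRange_mem_trivOf ev _ (trivRel_le_trivOf (relKer_le_trivRel_of_subsingleton hx'))
  rw [show (ev ∘ CotT.rel P) = f from hev] at h
  convert h using 1
  exact Finsupp.ext fun i => (hevC _).symm

end Groth.Agent.CotTLib
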