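import Groth.Agent.CotTLib.Comparison

/-!
# Relations of a regular sequence are trivial, hence `T² = 0`
-/

universe u v w t m

open TensorProduct

noncomputable section

namespace Groth.Agent.CotTLib

open CotT RingTheory.Sequence
open scoped Pointwise

theorem exists_alternating {R : Type u} [CommRing R] : ∀ {n : ℕ} (x : Fin n → R) (M : Type v)
    [AddCommGroup M] [Module R M], IsWeaklyRegular M (List.ofFn x) → ∀ a : Fin n → M, ∑ i, x i • a i = 0 →
    ∃ d : Fin n → Fin n → M, ∀ i, a i = ∑ j, x j • (d i j - d j i) := by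
  intro n
  induction n with
  | zero => exact fun x M _ _ _ a _ => ⟨fun i => i.elim0, fun i => i.elim0⟩
  | succ n ih =>
    intro x M _ _ hreg a ha
    rw [List.ofFn_succ, isWeaklyRegular_cons_iff] at hreg
    obtain ⟨hreg0, hreg'⟩ := hreg
    rw [Fin.sum_univ_succ] at ha
    have hbar : ∑ i : Fin n, x i.succ • (Submodule.Quotient.mk (a i.succ) : QuotSMulTop (x 0) M) = 0 := by
      rw [show (∑ i : Fin n, x i.succ • (Submodule.Quotient.mk (a i.succ) : QuotSMulTop (x 0) M)) =
        Submodule.Quotient.mk (∑ i : Fin n, x i.succ • a i.succ) by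
          simp only [← Submodule.mkQ_apply, map_sum, map_smul], Submodule.Quotient.mk_eq_zero]
      rw [add_comm, add_eq_zero_iff_eq_neg] at ha
      rw [ha]
      exact neg_mem (Submodule.smul_mem_pointwise_smul _ _ _ Submodule.mem_top)
    obtain ⟨d', hd'⟩ := ih (fun i => x i.succ) _ hreg' _ hbar
    choose d hd using fun i j => Submodule.Quotient.mk_surjective _ (d' i j)
    have hb : ∀ i : Fin n, ∃ b, a i.succ - ∑ j, x j.succ • (d i j - d j i) = x 0 • b := fun i => by
      have h : a i.succ - ∑ j, x j.succ • (d i j - d j i) ∈ (x 0) • (⊤ : Submodule R M) := by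
        rw [← Submodule.Quotient.mk_eq_zero, ← Submodule.mkQ_apply, map_sub, map_sum, sub_eq_zero]
        simp only [map_smul, map_sub, Submodule.mkQ_apply, hd]
        exact hd' i
      obtain ⟨b, -, hb⟩ := (Submodule.mem_smul_pointwise_iff_exists _ _ _).1 h
      exact ⟨b, hb.symm⟩
    choose b hb using hb
    have hsym : ∑ i : Fin n, x i.succ • ∑ j : Fin n, x j.succ • (d i j - d j i) = 0 := by
      simp only [Finset.smul_sum, smul_sub, Finset.sum_sub_distrib, sub_eq_zero]
      rw [Finset.sum_comm]
      exact Finset.sum_congr rfl fun i _ => Finset.sum_congr rfl fun j _ => smul_comm _ _ _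
    have h0 : a 0 + ∑ i : Fin n, x i.succ • b i = 0 := by
      refine hreg0 ?_
      show x 0 • _ = x 0 • 0
      rw [smul_zero, smul_add, Finset.smul_sum]
      have : ∀ i : Fin n, x 0 • x i.succ • b i =
          x i.succ • a i.succ - x i.succ • ∑ j, x j.succ • (d i j - d j i) := fun i => by
        rw [smul_comm, ← hb i, smul_sub]
      rw [Finset.sum_congr rfl fun i _ => this i, Finset.sum_sub_distrib, hsym, sub_zero, ha]
    refine ⟨Fin.cons (fun _ => 0) (fun i => Fin.cons (b i) (d i)), Fin.cases ?_ fun i => ?_⟩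
    · rw [Fin.sum_univ_succ]
      simp only [Fin.cons_zero, Fin.cons_succ, sub_self, smul_zero, zero_add, zero_sub, smul_neg,
        Finset.sum_neg_distrib]
      exact eq_neg_of_add_eq_zero_left h0
    · rw [Fin.sum_univ_succ]
      simp only [Fin.cons_zero, Fin.cons_succ, sub_zero]
      rw [← hb i, sub_add_cancel]

variable {A : Type u} {B : Type v} {ι : Type w} {σ : Type t}
variable [CommRing A] [CommRing B] [Algebra A B]
variable {P : Algebra.Presentation A B ι σ}

/-- If every relation among the chosen generators has the form `a_i = Σ x_j (d_ij - d_ji)`, it is trivial. -/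
theorem mem_trivRel_of_alternating {n : ℕ} (e : Fin n ≃ σ) (f : relMod P)
    (d : Fin n → Fin n → P.toExtension.Ring)
    (hd : ∀ i, f (e i) = ∑ j, rel P (e j) * (d i j - d j i)) : f ∈ trivRel P := by
  have hf : f = ∑ i, ∑ j, d i j • (rel P (e j) • Finsupp.single (e i) 1 - rel P (e i) • Finsupp.single (e j) 1) := by
    classical
    refine Finsupp.ext fun s => ?_
    obtain ⟨i, rfl⟩ := e.surjective s
    simp only [Finsupp.finsetSum_apply, Finsupp.smul_apply, Finsupp.sub_apply, Finsupp.single_apply,
      e.injective.eq_iff, smul_eq_mul, mul_ite, mul_one, mul_zero, mul_sub, Finset.sum_sub_distrib,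
      Finset.sum_ite_irrel, Finset.sum_const_zero, Finset.sum_ite_eq', Finset.mem_univ, if_true]
    rw [hd i]
    rw [← Finset.sum_sub_distrib]
    exact Finset.sum_congr rfl fun j _ => by ring
  rw [hf]
  refine Submodule.sum_mem _ fun i _ => Submodule.sum_mem _ fun j _ => Submodule.smul_mem _ _ ?_
  refine Submodule.subset_span ⟨Finsupp.single (e j) 1, Finsupp.single (e i) 1, ?_⟩
  rw [jmap_single, jmap_single, one_mul, one_mul]

/-- If every relation is trivial then `T² = 0`. -/
theorem subsingleton_T2_of_relKer_le (h : relKer P ≤ trivRel P) (M : Type m) [AddCommGroup M] [Module B M] :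
    Subsingleton (T2 P M) := by
  rw [subsingleton_T2_iff]
  exact fun α => ⟨0, L2_ext fun q => by
    rw [toL2_eq_zero_of_mem_trivRel (h q.2), map_zero, map_zero]⟩

end Groth.Agent.CotTLib
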