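import Mathlib
import Groth.Prelude.Def_CotT2

/-!
# Basic facts on the cotangent complex of a presentation

Maps out of `L₁` and `L₂` are semilinear maps out of `F` and `Q`; `L₂ → L₁ → I/I² → 0` is exact and
`T¹ = coker (Hom(L₀, M) → Hom(I/I², M))`.
-/

universe u v w t m

open TensorProduct

noncomputable section

namespace Groth.Agent.CotTLib

open CotT

variable {A : Type u} {B : Type v} {ι : Type w} {σ : Type t}
variable [CommRing A] [CommRing B] [Algebra A B]
variable {P : Algebra.Presentation A B ι σ}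
variable {M : Type m} [AddCommGroup M] [Module B M]

theorem algebraMap_surjective : Function.Surjective (algebraMap P.toExtension.Ring B) :=
  P.toExtension.algebraMap_surjective

/-- The map `B ⊗_R N → M` extending a semilinear additive map `N → M`. -/
def liftSemi {N : Type*} [AddCommGroup N] [Module P.toExtension.Ring N] (g : N →+ M)
    (hg : ∀ (r : P.toExtension.Ring) n, g (r • n) = algebraMap P.toExtension.Ring B r • g n) :
    B ⊗[P.toExtension.Ring] N →ₗ[B] M :=
  letI : Module P.toExtension.Ring M := Module.compHom M (algebraMap P.toExtension.Ring B)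
  haveI : IsScalarTower P.toExtension.Ring B M := IsScalarTower.of_compHom P.toExtension.Ring B M
  LinearMap.liftBaseChange B { g with map_smul' := hg }

@[simp] theorem liftSemi_tmul {N : Type*} [AddCommGroup N] [Module P.toExtension.Ring N] (g : N →+ M)
    (hg : ∀ (r : P.toExtension.Ring) n, g (r • n) = algebraMap P.toExtension.Ring B r • g n) (b : B) (n : N) :
    liftSemi g hg (b ⊗ₜ n) = b • g n := by
  let _ : Module P.toExtension.Ring M := Module.compHom M (algebraMap P.toExtension.Ring B)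
  have _ : IsScalarTower P.toExtension.Ring B M := IsScalarTower.of_compHom P.toExtension.Ring B M
  simp only [liftSemi, LinearMap.liftBaseChange_tmul]
  rfl

theorem one_tmul_surjective (N : Type*) [AddCommMonoid N] [Module P.toExtension.Ring N] (z : B ⊗[P.toExtension.Ring] N) :
    ∃ n : N, (1 : B) ⊗ₜ n = z :=
  TensorProduct.mk_surjective P.toExtension.Ring N B algebraMap_surjective z

theorem one_tmul_smul {N : Type*} [AddCommMonoid N] [Module P.toExtension.Ring N] (r : P.toExtension.Ring) (n : N) :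
    (1 : B) ⊗ₜ[P.toExtension.Ring] (r • n) = algebraMap P.toExtension.Ring B r • ((1 : B) ⊗ₜ n) := by
  rw [algebraMap_smul, TensorProduct.tmul_smul]

variable (P) in
/-- `f ↦ 1 ⊗ f`, the projection `F → L₁`. -/
def toL1 : relMod P →+ L1 P :=
  (TensorProduct.mk P.toExtension.Ring B (relMod P) 1).toAddMonoidHom

theorem toL1_apply (f : relMod P) : toL1 P f = (1 : B) ⊗ₜ f := rfl

theorem toL1_surjective : Function.Surjective (toL1 P) := one_tmul_surjective _

theorem toL1_smul (r : P.toExtension.Ring) (f : relMod P) :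
    toL1 P (r • f) = algebraMap P.toExtension.Ring B r • toL1 P f := one_tmul_smul r f

theorem toL1_smul_eq_zero {r : P.toExtension.Ring} (hr : algebraMap P.toExtension.Ring B r = 0) (f : relMod P) :
    toL1 P (r • f) = 0 := by rw [toL1_smul, hr, zero_smul]

variable (P) in
/-- `q ↦` class of `1 ⊗ q`, the projection `Q → L₂`. -/
def toL2 : relKer P →+ L2 P :=
  (Submodule.mkQ _).toAddMonoidHom.comp
    (TensorProduct.mk P.toExtension.Ring B (relKer P) 1).toAddMonoidHom

theorem toL2_surjective : Function.Surjective (toL2 P) := fun z => by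
  obtain ⟨z, rfl⟩ := Submodule.Quotient.mk_surjective _ z
  obtain ⟨n, rfl⟩ := one_tmul_surjective _ z
  exact ⟨n, rfl⟩

theorem toL2_smul (r : P.toExtension.Ring) (q : relKer P) :
    toL2 P (r • q) = algebraMap P.toExtension.Ring B r • toL2 P q := by
  show Submodule.Quotient.mk ((1 : B) ⊗ₜ[P.toExtension.Ring] (r • q)) = _
  rw [one_tmul_smul, Submodule.Quotient.mk_smul]
  rfl

theorem toL2_eq_zero_of_mem_trivRel {q : relKer P} (hq : (q : relMod P) ∈ trivRel P) : toL2 P q = 0 :=
  (Submodule.Quotient.mk_eq_zero _).2 ⟨(1 : B) ⊗ₜ ⟨q, hq⟩, rfl⟩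

theorem toL2_eq_of_sub_mem_trivRel {q q' : relKer P} (hq : (q : relMod P) - q' ∈ trivRel P) :
    toL2 P q = toL2 P q' := by
  rw [← sub_eq_zero, ← map_sub]
  exact toL2_eq_zero_of_mem_trivRel hq

@[simp] theorem d2_toL2 (q : relKer P) : d2 P (toL2 P q) = toL1 P q := d2_mk_tmul P 1 q

theorem L1_ext {φ ψ : L1 P →ₗ[B] M} (h : ∀ f, φ (toL1 P f) = ψ (toL1 P f)) : φ = ψ := by
  refine LinearMap.ext fun z => ?_
  obtain ⟨f, rfl⟩ := toL1_surjective z
  exact h f

theorem L2_ext {φ ψ : L2 P →ₗ[B] M} (h : ∀ q, φ (toL2 P q) = ψ (toL2 P q)) : φ = ψ := by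
  refine LinearMap.ext fun z => ?_
  obtain ⟨f, rfl⟩ := toL2_surjective z
  exact h f

/-- A semilinear map on `Q` killing the trivial relations, as a map out of `L₂`. -/
def mkL2 (g : relKer P →+ M) (hg : ∀ (r : P.toExtension.Ring) n, g (r • n) = algebraMap P.toExtension.Ring B r • g n)
    (h0 : ∀ q : relKer P, (q : relMod P) ∈ trivRel P → g q = 0) : L2 P →ₗ[B] M :=
  Submodule.liftQ _ (liftSemi g hg) (by
    rintro _ ⟨z, rfl⟩
    obtain ⟨k, rfl⟩ := one_tmul_surjective _ z
    rw [LinearMap.mem_ker, LinearMap.baseChange_tmul, liftSemi_tmul, one_smul]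
    exact h0 _ k.2)

@[simp] theorem mkL2_toL2 (g : relKer P →+ M) (hg) (h0) (q : relKer P) : mkL2 g hg h0 (toL2 P q) = g q := by
  show liftSemi g hg ((1 : B) ⊗ₜ q) = _
  rw [liftSemi_tmul, one_smul]

variable (P M) in
/-- The map on `L₁` with prescribed values on the basis. -/
def mkL1 (g : σ → M) : L1 P →ₗ[B] M := (L1basis P).constr B g

@[simp] theorem mkL1_single (g : σ → M) (s : σ) (r : P.toExtension.Ring) :
    mkL1 P M g (toL1 P (Finsupp.single s r)) = algebraMap P.toExtension.Ring B r • g s := by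
  rw [← Finsupp.smul_single_one, toL1_smul, map_smul]
  congr 1
  show (L1basis P).constr B g ((1 : B) ⊗ₜ Finsupp.single s 1) = g s
  rw [← L1basis_apply, Module.Basis.constr_basis]

theorem jker_surjective : Function.Surjective (jker P) := fun x => by
  obtain ⟨f, hf⟩ : (x : P.toExtension.Ring) ∈ LinearMap.range (jmap P) := by
    rw [range_jmap]; exact x.2
  exact ⟨f, Subtype.ext hf⟩

theorem toCot_toL1 (f : relMod P) : toCot P (toL1 P f) = Algebra.Extension.Cotangent.mk (jker P f) := by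
  rw [toL1_apply, toCot_tmul, one_smul]

theorem toCot_surjective : Function.Surjective (toCot P) := fun z => by
  obtain ⟨x, rfl⟩ := Algebra.Extension.Cotangent.mk_surjective z
  obtain ⟨f, rfl⟩ := jker_surjective x
  exact ⟨toL1 P f, toCot_toL1 f⟩

/-- `L₂ → L₁ → I/I²` is exact. -/
theorem exact_d2_toCot : Function.Exact (d2 P) (toCot P) := by
  intro z
  refine ⟨fun hz => ?_, fun ⟨y, hy⟩ => hy ▸ LinearMap.congr_fun (toCot_comp_d2 P) y⟩
  obtain ⟨f, rfl⟩ := toL1_surjective z
  rw [toCot_toL1, Algebra.Extension.Cotangent.mk_eq_zero_iff, jker_apply, pow_two] at hz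
  have key : ∀ x ∈ P.toExtension.ker * P.toExtension.ker, ∃ g, jmap P g = x ∧ toL1 P g = 0 := by
    intro x hx
    induction hx using Submodule.mul_induction_on' with
    | mem_mul_mem a ha b hb =>
      obtain ⟨v, hv⟩ : b ∈ LinearMap.range (jmap P) := by rw [range_jmap]; exact hb
      exact ⟨a • v, by rw [map_smul, hv, smul_eq_mul], toL1_smul_eq_zero ha v⟩
    | add x _ y _ hx hy =>
      obtain ⟨g, h1, h2⟩ := hx
      obtain ⟨g', h3, h4⟩ := hy
      exact ⟨g + g', by rw [map_add, h1, h3], by rw [map_add, h2, h4, add_zero]⟩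
  obtain ⟨g, hg, hg0⟩ := key _ hz
  exact ⟨toL2 P ⟨f - g, by show jmap P (f - g) = 0; rw [map_sub, hg, sub_self]⟩,
    by rw [d2_toL2, map_sub, hg0, sub_zero]⟩

/-- A cocycle factors through `I/I²`. -/
theorem exists_comp_toCot {φ : L1 P →ₗ[B] M} (hφ : φ ∘ₗ d2 P = 0) :
    ∃ g : P.toExtension.Cotangent →ₗ[B] M, g ∘ₗ toCot P = φ := by
  have hker : LinearMap.ker (toCot P) ≤ LinearMap.ker φ := fun z hz => by
    obtain ⟨y, rfl⟩ := (exact_d2_toCot z).1 hz
    exact LinearMap.congr_fun hφ y
  refine ⟨(Submodule.liftQ _ φ hker) ∘ₗ ((toCot P).quotKerEquivOfSurjective toCot_surjective).symm.toLinearMap,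
    LinearMap.ext fun z => ?_⟩
  show Submodule.liftQ _ φ hker (((toCot P).quotKerEquivOfSurjective toCot_surjective).symm (toCot P z)) = φ z
  rw [show ((toCot P).quotKerEquivOfSurjective toCot_surjective).symm (toCot P z) = Submodule.Quotient.mk z from
    (LinearEquiv.symm_apply_eq _).2 rfl, Submodule.liftQ_apply]

theorem comp_toCot_injective {g g' : P.toExtension.Cotangent →ₗ[B] M} (h : g ∘ₗ toCot P = g' ∘ₗ toCot P) : g = g' := by
  refine LinearMap.ext fun z => ?_
  obtain ⟨x, rfl⟩ := toCot_surjective z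
  exact LinearMap.congr_fun h x

theorem ker_d1Star_eq : LinearMap.ker (d1Star P M) =
    LinearMap.ker (LinearMap.lcomp B M P.toExtension.cotangentComplex) := by
  refine le_antisymm (fun φ hφ => comp_toCot_injective (M := M) ?_) (fun φ hφ => ?_)
  · rw [LinearMap.zero_comp]
    exact hφ
  · rw [LinearMap.mem_ker, d1Star_apply, d1, ← LinearMap.comp_assoc,
      show φ ∘ₗ P.toExtension.cotangentComplex = 0 from hφ, LinearMap.zero_comp]

theorem homToT1_apply (g : P.toExtension.Cotangent →ₗ[B] M) :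
    homToT1 P M g = Submodule.Quotient.mk ⟨g ∘ₗ toCot P, by
      rw [LinearMap.mem_ker, d2Star_apply, LinearMap.comp_assoc, toCot_comp_d2, LinearMap.comp_zero]⟩ := rfl

theorem homToT1_surjective : Function.Surjective (homToT1 P M) := fun z => by
  obtain ⟨⟨φ, hφ⟩, rfl⟩ := Submodule.Quotient.mk_surjective _ z
  obtain ⟨g, hg⟩ := exists_comp_toCot (M := M) (φ := φ) hφ
  exact ⟨g, congrArg Submodule.Quotient.mk (Subtype.ext hg)⟩

theorem homToT1_eq_zero_iff (g : P.toExtension.Cotangent →ₗ[B] M) :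
    homToT1 P M g = 0 ↔ ∃ ψ : L0 P →ₗ[B] M, ψ ∘ₗ P.toExtension.cotangentComplex = g := by
  rw [homToT1_apply, Submodule.Quotient.mk_eq_zero]
  show (∃ ψ, ψ ∘ₗ d1 P = g ∘ₗ toCot P) ↔ _
  exact exists_congr fun ψ => ⟨fun h => comp_toCot_injective (by rw [LinearMap.comp_assoc]; exact h),
    fun h => by rw [← h, LinearMap.comp_assoc]; rfl⟩

/-- `T¹ = 0` iff every map on `I/I²` extends along the conormal map. -/
theorem subsingleton_T1_iff :
    Subsingleton (T1 P M) ↔ ∀ g : P.toExtension.Cotangent →ₗ[B] M,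
      ∃ ψ : L0 P →ₗ[B] M, ψ ∘ₗ P.toExtension.cotangentComplex = g := by
  refine ⟨fun h g => (homToT1_eq_zero_iff g).1 (Subsingleton.elim _ _), fun h => ⟨fun a b => ?_⟩⟩
  obtain ⟨a, rfl⟩ := homToT1_surjective a
  obtain ⟨b, rfl⟩ := homToT1_surjective b
  rw [(homToT1_eq_zero_iff a).2 (h a), (homToT1_eq_zero_iff b).2 (h b)]

/-- `T² = 0` iff every map on `L₂` extends along `d₂`. -/
theorem subsingleton_T2_iff :
    Subsingleton (T2 P M) ↔ ∀ α : L2 P →ₗ[B] M, ∃ φ : L1 P →ₗ[B] M, φ ∘ₗ d2 P = α :=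
  Submodule.Quotient.subsingleton_iff.trans ⟨fun h α => by
    obtain ⟨φ, hφ⟩ : α ∈ LinearMap.range (d2Star P M) := h ▸ Submodule.mem_top
    exact ⟨φ, hφ⟩, fun h => eq_top_iff.2 fun α _ => by obtain ⟨φ, hφ⟩ := h α; exact ⟨φ, hφ⟩⟩

end Groth.Agent.CotTLib
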