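import Groth.Agent.CotTLib.Comparison

/-!
# The cochain complexes of `A → B → C` for adapted presentations
-/

universe u m

open TensorProduct

noncomputable section

namespace Groth.Agent.CotTLib

open CotT

variable {A B C : Type u} [CommRing A] [CommRing B] [CommRing C] [Algebra A B] [Algebra B C] [Algebra A C]
  [IsScalarTower A B C] {ι σ ι' σ' : Type u}
variable (P : Algebra.Presentation A B ι σ) (Q : Algebra.Presentation B C ι' σ')

/-- The morphism from the presentation of `B/A` to the composed presentation of `C/A`. -/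
def toC : PresHom P (Q.comp P) where
  hom := Q.toGenerators.toComp P.toGenerators
  relVal s := Finsupp.single (Sum.inr s) 1
  jmap_relVal s := by
    rw [jmap_single, one_mul]
    exact (DFunLike.congr_fun (Algebra.Generators.toComp_toAlgHom Q.toGenerators P.toGenerators) (rel P s)).symm

/-- The morphism from the composed presentation of `C/A` to the presentation of `C/B`. -/
def ofC : PresHom (Q.comp P) Q where
  hom := Q.toGenerators.ofComp P.toGenerators
  relVal := Sum.elim (fun r => Finsupp.single r 1) (fun _ => 0)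
  jmap_relVal := by
    rintro (r | s)
    · refine ((jmap_single Q r 1).trans (one_mul _)).trans ?_
      exact (Q.comp_aeval_relation_inl P r).symm
    · refine (map_zero (jmap Q)).trans ?_
      refine Eq.trans ?_ (Algebra.Generators.toAlgHom_ofComp_rename Q.toGenerators P.toGenerators (rel P s)).symm
      exact ((congrArg MvPolynomial.C (algebraMap_rel P s)).trans (map_zero _)).symm

theorem ofC_relModMap_apply (f : relMod (Q.comp P)) (r : σ') :
    (ofC P Q).relModMap f r = (ofC P Q).ringHom (f (Sum.inl r)) := by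
  classical
  induction f using Finsupp.induction_linear with
  | zero => rw [map_zero, Finsupp.zero_apply, Finsupp.zero_apply]; exact (map_zero (ofC P Q).ringHom).symm
  | add x y hx hy => rw [map_add, Finsupp.add_apply, Finsupp.add_apply, map_add, hx, hy]
  | single a c =>
    rw [PresHom.relModMap_single]
    rcases a with a | a
    · show ((ofC P Q).ringHom c • Finsupp.single a (1 : Q.toExtension.Ring)) r = _
      rw [Finsupp.smul_single_one, Finsupp.single_apply, Finsupp.single_apply]
      simp only [Sum.inl.injEq]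
      split_ifs
      · rfl
      · exact (map_zero (ofC P Q).ringHom).symm
    · show ((ofC P Q).ringHom c • (0 : relMod Q)) r = _
      rw [smul_zero, Finsupp.zero_apply, Finsupp.single_eq_of_ne (by simp)]
      exact (map_zero (ofC P Q).ringHom).symm

theorem ofC_ringHom_surjective : Function.Surjective (ofC P Q).ringHom :=
  Algebra.Generators.toAlgHom_ofComp_surjective Q.toGenerators P.toGenerators

theorem ofC_relModMap_surjective : Function.Surjective (ofC P Q).relModMap := fun g => by
  induction g using Finsupp.induction_linear with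
  | zero => exact ⟨0, map_zero _⟩
  | add x y hx hy =>
    obtain ⟨a, rfl⟩ := hx
    obtain ⟨b, rfl⟩ := hy
    exact ⟨a + b, map_add _ _ _⟩
  | single r c =>
    obtain ⟨d, hd⟩ := ofC_ringHom_surjective P Q c
    refine ⟨Finsupp.single (Sum.inl r) d, ?_⟩
    rw [PresHom.relModMap_single, hd]
    exact Finsupp.smul_single_one r c

theorem exists_trivRel_lift {y : relMod Q} (hy : y ∈ trivRel Q) :
    ∃ x ∈ trivRel (Q.comp P), (ofC P Q).relModMap x = y := by
  induction hy using Submodule.span_induction with
  | mem z hz =>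
    obtain ⟨a, b, rfl⟩ := hz
    obtain ⟨a, rfl⟩ := ofC_relModMap_surjective P Q a
    obtain ⟨b, rfl⟩ := ofC_relModMap_surjective P Q b
    refine ⟨_, Submodule.subset_span ⟨a, b, rfl⟩, ?_⟩
    rw [map_sub, LinearMap.map_smulₛₗ, LinearMap.map_smulₛₗ, PresHom.jmap_relModMap, PresHom.jmap_relModMap]
  | zero => exact ⟨0, Submodule.zero_mem _, map_zero _⟩
  | add a b _ _ ha hb =>
    obtain ⟨a', ha', rfl⟩ := ha
    obtain ⟨b', hb', rfl⟩ := hb
    exact ⟨a' + b', add_mem ha' hb', map_add _ _ _⟩
  | smul c a _ ha =>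
    obtain ⟨a', ha', rfl⟩ := ha
    obtain ⟨d, rfl⟩ := ofC_ringHom_surjective P Q c
    exact ⟨d • a', Submodule.smul_mem _ _ ha', LinearMap.map_smulₛₗ _ _ _⟩

/-- The relations supported on the indices coming from `P`. -/
def inrSpan : Submodule (Q.comp P).toExtension.Ring (relMod (Q.comp P)) :=
  Submodule.span _ (Set.range fun s : σ => Finsupp.single (Sum.inr s) 1)

theorem toC_relModMap_mem (g : relMod P) : (toC P Q).relModMap g ∈ inrSpan P Q := by
  induction g using Finsupp.induction_linear with
  | zero => rw [map_zero]; exact zero_mem _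
  | add x y hx hy => rw [map_add]; exact add_mem hx hy
  | single s c =>
    rw [PresHom.relModMap_single]
    exact Submodule.smul_mem _ _ (Submodule.subset_span ⟨s, rfl⟩)

theorem exists_inrSpan_of_ker {c : (Q.comp P).toExtension.Ring} (hc : (ofC P Q).ringHom c = 0) :
    ∃ u ∈ inrSpan P Q, jmap (Q.comp P) u = c := by
  have hc' : c ∈ P.toExtension.ker.map (toC P Q).ringHom := by
    have h := Algebra.Generators.map_toComp_ker Q.toGenerators P.toGenerators
    exact (h.ge : RingHom.ker (Q.toGenerators.ofComp P.toGenerators).toAlgHom ≤ _) hc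
  clear hc
  induction hc' using Submodule.span_induction with
  | mem z hz =>
    obtain ⟨x, hx, rfl⟩ := hz
    obtain ⟨g, hg⟩ : x ∈ LinearMap.range (jmap P) := by rw [range_jmap]; exact hx
    exact ⟨_, toC_relModMap_mem P Q g, by rw [PresHom.jmap_relModMap, hg]⟩
  | zero => exact ⟨0, zero_mem _, map_zero _⟩
  | add a b _ _ ha hb =>
    obtain ⟨a', ha', ha''⟩ := ha
    obtain ⟨b', hb', hb''⟩ := hb
    exact ⟨a' + b', add_mem ha' hb', by rw [map_add, ha'', hb'']⟩
  | smul r a _ ha =>
    obtain ⟨a', ha', ha''⟩ := ha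
    exact ⟨r • a', Submodule.smul_mem _ _ ha', by rw [map_smul, ha'']⟩

theorem mem_sup_of_relModMap_eq_zero {f : relMod (Q.comp P)} (hf : (ofC P Q).relModMap f = 0) :
    f ∈ trivRel (Q.comp P) ⊔ inrSpan P Q := by
  rw [← f.sum_single]
  refine Submodule.sum_mem _ fun a _ => ?_
  rcases a with r | s
  · have h : (ofC P Q).ringHom (f (Sum.inl r)) = 0 := by
      rw [← ofC_relModMap_apply, hf, Finsupp.zero_apply]
    obtain ⟨u, hu, hju⟩ := exists_inrSpan_of_ker P Q h
    refine Submodule.mem_sup.2
      ⟨jmap (Q.comp P) u • Finsupp.single (Sum.inl r) 1 - jmap (Q.comp P) (Finsupp.single (Sum.inl r) 1) • u,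
        Submodule.subset_span ⟨u, Finsupp.single (Sum.inl r) 1, rfl⟩,
        jmap (Q.comp P) (Finsupp.single (Sum.inl r) 1) • u, Submodule.smul_mem _ _ hu, ?_⟩
    rw [sub_add_cancel, hju, Finsupp.smul_single_one]
  · refine Submodule.mem_sup_right ?_
    rw [← Finsupp.smul_single_one]
    exact Submodule.smul_mem _ _ (Submodule.subset_span ⟨s, rfl⟩)

/-- `A[x, y] ≅ A[x][y]`. -/
def curry : (Q.comp P).toExtension.Ring ≃+* MvPolynomial ι' P.toExtension.Ring :=
  (MvPolynomial.sumAlgEquiv A ι' ι).toRingEquiv

theorem curry_toC (x : P.toExtension.Ring) : curry P Q ((toC P Q).ringHom x) = MvPolynomial.C x := by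
  have h : (toC P Q).ringHom x = MvPolynomial.rename Sum.inr (x : MvPolynomial ι A) :=
    DFunLike.congr_fun (Algebra.Generators.toComp_toAlgHom Q.toGenerators P.toGenerators) x
  rw [h]
  exact DFunLike.congr_fun (MvPolynomial.sumAlgEquiv_comp_rename_inr (R := A) (S₁ := ι') (S₂ := ι))
    (x : MvPolynomial ι A)

/-- Relations with coefficients expanded in monomials of the new variables. -/
def expand : ((ι' →₀ ℕ) →₀ relMod P) →+ relMod (Q.comp P) :=
  Finsupp.liftAddHom fun v =>
    (DistribSMul.toAddMonoidHom (relMod (Q.comp P)) ((curry P Q).symm (MvPolynomial.monomial v 1))).comp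
      (toC P Q).relModMap.toAddMonoidHom

theorem expand_single (v : ι' →₀ ℕ) (g : relMod P) :
    expand P Q (Finsupp.single v g) = (curry P Q).symm (MvPolynomial.monomial v 1) • (toC P Q).relModMap g := by
  simp [expand]

theorem curry_jmap_expand (G : (ι' →₀ ℕ) →₀ relMod P) :
    curry P Q (jmap (Q.comp P) (expand P Q G)) = G.sum fun v g => MvPolynomial.monomial v (jmap P g) := by
  classical
  induction G using Finsupp.induction_linear with
  | zero => simp
  | add x y hx hy =>
    rw [map_add, map_add, map_add, hx, hy, Finsupp.sum_add_index' (fun v => by simp)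
      (fun v g g' => by rw [map_add, map_add])]
  | single v g =>
    rw [expand_single, map_smul, smul_eq_mul, map_mul, RingEquiv.apply_symm_apply, PresHom.jmap_relModMap,
      curry_toC, Finsupp.sum_single_index (by simp), mul_comm, MvPolynomial.C_mul_monomial, mul_one]

theorem jmap_apply_eq_zero {G : (ι' →₀ ℕ) →₀ relMod P} (hG : jmap (Q.comp P) (expand P Q G) = 0)
    (v : ι' →₀ ℕ) : jmap P (G v) = 0 := by
  classical
  have h := curry_jmap_expand P Q G
  rw [hG, map_zero] at h
  have h' := congrArg (MvPolynomial.coeff v) h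
  rw [MvPolynomial.coeff_zero, Finsupp.sum, MvPolynomial.coeff_sum] at h'
  simp only [MvPolynomial.coeff_monomial, Finset.sum_ite_eq', Finsupp.mem_support_iff] at h'
  by_cases hv : G v = 0
  · rw [hv, map_zero]
  · rw [if_pos hv] at h'
    exact h'.symm

theorem exists_expand {f : relMod (Q.comp P)} (hf : f ∈ inrSpan P Q) : ∃ G, expand P Q G = f := by
  obtain ⟨c, rfl⟩ := Finsupp.mem_span_range_iff_exists_finsupp.1 hf
  have hc : ∀ (a : (Q.comp P).toExtension.Ring) (s : σ),
      a • Finsupp.single (Sum.inr s) (1 : (Q.comp P).toExtension.Ring) ∈ AddMonoidHom.mrange (expand P Q) := by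
    intro a s
    obtain ⟨p, rfl⟩ := (curry P Q).symm.surjective a
    induction p using MvPolynomial.induction_on' with
    | monomial v r =>
      refine ⟨Finsupp.single v (Finsupp.single s r), ?_⟩
      rw [expand_single, PresHom.relModMap_single, smul_smul]
      refine congrArg (· • Finsupp.single (Sum.inr s) (1 : (Q.comp P).toExtension.Ring)) ?_
      apply (curry P Q).injective
      rw [map_mul, RingEquiv.apply_symm_apply, RingEquiv.apply_symm_apply, curry_toC, mul_comm,
        MvPolynomial.C_mul_monomial, mul_one]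
    | add p q hp hq => rw [map_add, add_smul]; exact add_mem hp hq
  exact AddSubmonoid.sum_mem _ fun s _ => hc (c s) s

theorem ofC_relModMap_inrSpan {f : relMod (Q.comp P)} (hf : f ∈ inrSpan P Q) : (ofC P Q).relModMap f = 0 := by
  induction hf using Submodule.span_induction with
  | mem z hz =>
    obtain ⟨s, rfl⟩ := hz
    rw [PresHom.relModMap_single]
    exact smul_zero _
  | zero => exact map_zero _
  | add a b _ _ ha hb => rw [map_add, ha, hb, add_zero]
  | smul r a _ ha => rw [LinearMap.map_smulₛₗ, ha, smul_zero]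

variable {M : Type m} [AddCommGroup M] [Module C M] [Module B M] [IsScalarTower B C M]

theorem eq_zero_of_toC_pull2_eq_zero {α : L2 (Q.comp P) →ₗ[C] M} (hα : (toC P Q).pull2 M α = 0)
    {q : relKer (Q.comp P)} (hq : (ofC P Q).relModMap (q : relMod (Q.comp P)) ∈ trivRel Q) :
    α (toL2 (Q.comp P) q) = 0 := by
  obtain ⟨x, hx, hxq⟩ := exists_trivRel_lift P Q hq
  obtain ⟨y, hy, z, hz, hyz⟩ := Submodule.mem_sup.1
    (mem_sup_of_relModMap_eq_zero P Q (f := (q : relMod (Q.comp P)) - x) (by rw [map_sub, hxq, sub_self]))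
  have hzQ : jmap (Q.comp P) z = 0 := by
    rw [show z = (q : relMod (Q.comp P)) - x - y by rw [← hyz]; abel, map_sub, map_sub]
    rw [show jmap (Q.comp P) (q : relMod (Q.comp P)) = 0 from q.2,
      show jmap (Q.comp P) x = 0 from trivRel_le_relKer _ hx,
      show jmap (Q.comp P) y = 0 from trivRel_le_relKer _ hy, sub_zero, sub_zero]
  have heq : toL2 (Q.comp P) q = toL2 (Q.comp P) ⟨z, hzQ⟩ := toL2_eq_of_sub_mem_trivRel (by
    show (q : relMod (Q.comp P)) - z ∈ trivRel (Q.comp P)
    rw [show (q : relMod (Q.comp P)) - z = x + y by rw [eq_sub_iff_add_eq] at hyz; rw [← hyz]; abel]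
    exact add_mem hx hy)
  obtain ⟨G, hG⟩ := exists_expand P Q hz
  have hGv : ∀ v, jmap P (G v) = 0 := jmap_apply_eq_zero P Q (by rw [hG, hzQ])
  have hz' : (⟨z, hzQ⟩ : relKer (Q.comp P)) = ∑ v ∈ G.support,
      ((curry P Q).symm (MvPolynomial.monomial v 1)) • (toC P Q).relKerMap ⟨G v, hGv v⟩ := by
    apply Subtype.ext
    rw [Submodule.coe_sum]
    show z = _
    conv_lhs => rw [← hG, ← G.sum_single, map_finsuppSum]
    exact Finset.sum_congr rfl fun v _ => expand_single P Q v (G v)
  rw [heq, hz', map_sum, map_sum]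
  refine Finset.sum_eq_zero fun v _ => ?_
  have h0 := LinearMap.congr_fun hα (toL2 P ⟨G v, hGv v⟩)
  rw [PresHom.pull2_apply, L2map_toL2, LinearMap.zero_apply] at h0
  rw [toL2_smul, map_smul, h0, smul_zero]

theorem exists_relKer_lift (q : relKer Q) :
    ∃ q' : relKer (Q.comp P), (ofC P Q).relModMap (q' : relMod (Q.comp P)) = (q : relMod Q) := by
  obtain ⟨f, hf⟩ := ofC_relModMap_surjective P Q (q : relMod Q)
  have h : (ofC P Q).ringHom (jmap (Q.comp P) f) = 0 := by
    rw [← PresHom.jmap_relModMap, hf]; exact q.2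
  obtain ⟨u, hu, hju⟩ := exists_inrSpan_of_ker P Q h
  refine ⟨⟨f - u, by show jmap _ (f - u) = 0; rw [map_sub, hju, sub_self]⟩, ?_⟩
  show (ofC P Q).relModMap (f - u) = _
  rw [map_sub, ofC_relModMap_inrSpan P Q hu, sub_zero, hf]

end Groth.Agent.CotTLib
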