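import Groth.Agent.CotTLib.Homotopy

/-!
# Morphisms of presentations exist, compose, and compare any two presentations of one algebra
-/

universe u v w t u' v' w' t' u'' v'' w'' t'' m

open TensorProduct

noncomputable section

namespace Groth.Agent.CotTLib

open CotT

section Exists

variable {A : Type u} {B : Type v} {ι : Type w} {σ : Type t}
variable {A' : Type u'} {B' : Type v'} {ι' : Type w'} {σ' : Type t'}
variable [CommRing A] [CommRing B] [Algebra A B] [CommRing A'] [CommRing B'] [Algebra A' B']
variable [Algebra A A'] [Algebra B B'] [Algebra A B'] [IsScalarTower A A' B'] [IsScalarTower A B B']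
variable (P : Algebra.Presentation A B ι σ) (P' : Algebra.Presentation A' B' ι' σ')

/-- The relations of `P` can be lifted along any morphism of generators. -/
theorem exists_relVal (f : Algebra.Generators.Hom P.toGenerators P'.toGenerators) (s : σ) :
    ∃ y : relMod P', jmap P' y = f.toExtensionHom.toRingHom (rel P s) := by
  rw [← LinearMap.mem_range, range_jmap]
  exact ((f.toExtensionHom.algebraMap_toRingHom (rel P s)).trans
    ((congrArg (algebraMap B B') (algebraMap_rel P s)).trans (map_zero _)) :
      algebraMap P'.toExtension.Ring B' (f.toExtensionHom.toRingHom (rel P s)) = 0)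

/-- A morphism of presentations over a given morphism of generators. -/
def presHomOfHom (f : Algebra.Generators.Hom P.toGenerators P'.toGenerators) : PresHom P P' where
  hom := f
  relVal s := (exists_relVal P P' f s).choose
  jmap_relVal s := (exists_relVal P P' f s).choose_spec

/-- Some morphism of presentations over the square. -/
def presHom : PresHom P P' := presHomOfHom P P' (Algebra.Generators.defaultHom _ _)

end Exists

section Comp

variable {A : Type u} {B : Type v} {ι : Type w} {σ : Type t}
variable {A' : Type u'} {B' : Type v'} {ι' : Type w'} {σ' : Type t'}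
variable {A'' : Type u''} {B'' : Type v''} {ι'' : Type w''} {σ'' : Type t''}
variable [CommRing A] [CommRing B] [Algebra A B] [CommRing A'] [CommRing B'] [Algebra A' B']
variable [CommRing A''] [CommRing B''] [Algebra A'' B'']
variable [Algebra A A'] [Algebra B B'] [Algebra A B'] [IsScalarTower A A' B'] [IsScalarTower A B B']
variable [Algebra A' A''] [Algebra B' B''] [Algebra A' B''] [IsScalarTower A' A'' B''] [IsScalarTower A' B' B'']
variable [Algebra A A''] [Algebra B B''] [Algebra A B''] [IsScalarTower A A'' B''] [IsScalarTower A B B'']
variable [IsScalarTower A A' A''] [IsScalarTower B B' B'']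
variable {P : Algebra.Presentation A B ι σ} {P' : Algebra.Presentation A' B' ι' σ'}
variable {P'' : Algebra.Presentation A'' B'' ι'' σ''}

theorem ringHom_genComp (f : Algebra.Generators.Hom P.toGenerators P'.toGenerators)
    (g : Algebra.Generators.Hom P'.toGenerators P''.toGenerators) (x : P.toExtension.Ring) :
    (g.comp f).toExtensionHom.toRingHom x = g.toExtensionHom.toRingHom (f.toExtensionHom.toRingHom x) :=
  Algebra.Generators.Hom.toAlgHom_comp_apply P.toGenerators P'.toGenerators P''.toGenerators f g x

/-- Composition of morphisms of presentations. -/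
def presComp (g : PresHom P' P'') (f : PresHom P P') : PresHom P P'' where
  hom := g.hom.comp f.hom
  relVal s := g.relModMap (f.relVal s)
  jmap_relVal s := by
    rw [PresHom.jmap_relModMap, f.jmap_relVal]
    exact (ringHom_genComp f.hom g.hom (rel P s)).symm

theorem presComp_relModMap (g : PresHom P' P'') (f : PresHom P P') (q : relMod P) :
    (presComp g f).relModMap q = g.relModMap (f.relModMap q) := by
  induction q using Finsupp.induction_linear with
  | zero => simp
  | add x y hx hy => rw [map_add, map_add, map_add, hx, hy]
  | single s r =>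
    rw [PresHom.relModMap_single, PresHom.relModMap_single, LinearMap.map_smulₛₗ]
    exact congrArg (· • g.relModMap (f.relVal s)) (ringHom_genComp f.hom g.hom r)

theorem presComp_L1map (g : PresHom P' P'') (f : PresHom P P') (x : L1 P) :
    (presComp g f).L1map x = g.L1map (f.L1map x) := by
  obtain ⟨q, rfl⟩ := toL1_surjective x
  rw [L1map_toL1, L1map_toL1, L1map_toL1, presComp_relModMap]

theorem presComp_L2map (g : PresHom P' P'') (f : PresHom P P') (x : L2 P) :
    (presComp g f).L2map x = g.L2map (f.L2map x) := by
  obtain ⟨q, rfl⟩ := toL2_surjective x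
  rw [L2map_toL2, L2map_toL2, L2map_toL2]
  exact congrArg _ (Subtype.ext (presComp_relModMap g f q))

theorem presComp_L0map (g : PresHom P' P'') (f : PresHom P P') (x : L0 P) :
    (presComp g f).L0map x = g.L0map (f.L0map x) := by
  induction x using TensorProduct.induction_on with
  | zero => simp
  | add a b ha hb => simp only [map_add, ha, hb]
  | tmul b w =>
    rw [← mul_one b, ← smul_eq_mul, ← TensorProduct.smul_tmul', LinearMap.map_smulₛₗ, LinearMap.map_smulₛₗ,
      LinearMap.map_smulₛₗ, ← IsScalarTower.algebraMap_apply]
    congr 1
    have hw : w ∈ Submodule.span P.toExtension.Ring (Set.range (KaehlerDifferential.D A P.toExtension.Ring)) := by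
      rw [KaehlerDifferential.span_range_derivation]; exact Submodule.mem_top
    induction hw using Submodule.span_induction with
    | mem z hz =>
      obtain ⟨r, rfl⟩ := hz
      simp only [PresHom.L0map_apply, Algebra.Extension.CotangentSpace.map_tmul, map_one]
      exact congrArg (fun z => (1 : B'') ⊗ₜ KaehlerDifferential.D A'' P''.toExtension.Ring z)
        (ringHom_genComp f.hom g.hom r)
    | zero => simp
    | add a b _ _ ha hb => simp only [TensorProduct.tmul_add, map_add, ha, hb]
    | smul r a _ ha =>
      rw [one_tmul_smul (P := P), LinearMap.map_smulₛₗ, LinearMap.map_smulₛₗ, LinearMap.map_smulₛₗ, ha,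
        ← IsScalarTower.algebraMap_apply B B' B'']

variable (M : Type m) [AddCommGroup M] [Module B'' M] [Module B' M] [Module B M]
variable [IsScalarTower B' B'' M] [IsScalarTower B B'' M] [IsScalarTower B B' M]

theorem T0pull_presComp (g : PresHom P' P'') (f : PresHom P P') (z : T0 P'' M) :
    (presComp g f).T0pull M z = f.T0pull M (g.T0pull M z) :=
  Subtype.ext (LinearMap.ext fun x => congrArg (z : L0 P'' →ₗ[B''] M) (presComp_L0map g f x))

theorem T1pull_presComp (g : PresHom P' P'') (f : PresHom P P') (z : T1 P'' M) :
    (presComp g f).T1pull M z = f.T1pull M (g.T1pull M z) := by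
  obtain ⟨z, rfl⟩ := Submodule.Quotient.mk_surjective _ z
  exact congrArg Submodule.Quotient.mk
    (Subtype.ext (LinearMap.ext fun x => congrArg (z : L1 P'' →ₗ[B''] M) (presComp_L1map g f x)))

theorem T2pull_presComp (g : PresHom P' P'') (f : PresHom P P') (z : T2 P'' M) :
    (presComp g f).T2pull M z = f.T2pull M (g.T2pull M z) := by
  obtain ⟨z, rfl⟩ := Submodule.Quotient.mk_surjective _ z
  exact congrArg Submodule.Quotient.mk (LinearMap.ext fun x => congrArg z (presComp_L2map g f x))

end Comp

section Same

variable {A : Type u} {B : Type v} {ι : Type w} {σ : Type t} {ι' : Type w'} {σ' : Type t'}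
variable [CommRing A] [CommRing B] [Algebra A B]
variable {P : Algebra.Presentation A B ι σ} {P' : Algebra.Presentation A B ι' σ'}
variable (M : Type m) [AddCommGroup M] [Module B M]

theorem presHomId_relModMap (q : relMod P) : (PresHom.id P).relModMap q = q := by
  induction q using Finsupp.induction_linear with
  | zero => simp
  | add x y hx hy => rw [map_add, hx, hy]
  | single s r =>
    rw [PresHom.relModMap_single]
    have hr : (PresHom.id P).ringHom r = r :=
      DFunLike.congr_fun (Algebra.Generators.Hom.toAlgHom_id P.toGenerators) r
    rw [hr]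
    exact Finsupp.smul_single_one s r

theorem L2map_id (x : L2 P) : (PresHom.id P).L2map x = x := by
  obtain ⟨q, hq⟩ := toL2_surjective x
  have h1 := L2map_toL2 (PresHom.id P) q
  have h2 : (PresHom.id P).relKerMap q = q := Subtype.ext (by rw [PresHom.relKerMap_coe]; exact presHomId_relModMap (q : relMod P))
  exact hq ▸ h1.trans (congrArg (toL2 P) h2)

theorem L1map_id (x : L1 P) : (PresHom.id P).L1map x = x := by
  obtain ⟨q, rfl⟩ := toL1_surjective x
  rw [L1map_toL1, presHomId_relModMap]

theorem L0map_id (x : L0 P) : (PresHom.id P).L0map x = x := by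
  rw [PresHom.L0map_apply]
  show Algebra.Extension.CotangentSpace.map (Algebra.Generators.Hom.id P.toGenerators).toExtensionHom x = x
  rw [Algebra.Generators.Hom.toExtensionHom_id, Algebra.Extension.CotangentSpace.map_id, LinearMap.id_apply]

theorem T2pull_id (z : T2 P M) : (PresHom.id P).T2pull M z = z := by
  obtain ⟨z, rfl⟩ := Submodule.Quotient.mk_surjective _ z
  have h : (PresHom.id P).pull2 M z = z := LinearMap.ext fun x => congrArg z (L2map_id x)
  exact congrArg Submodule.Quotient.mk h

theorem T1pull_id (z : T1 P M) : (PresHom.id P).T1pull M z = z := by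
  obtain ⟨z, rfl⟩ := Submodule.Quotient.mk_surjective _ z
  have h : (PresHom.id P).cocycles1Pull M z = z :=
    Subtype.ext (LinearMap.ext fun x => congrArg (z : L1 P →ₗ[B] M) (L1map_id x))
  exact congrArg Submodule.Quotient.mk h

theorem T0pull_id (z : T0 P M) : (PresHom.id P).T0pull M z = z :=
  Subtype.ext (LinearMap.ext fun x => congrArg (z : L0 P →ₗ[B] M) (L0map_id x))

theorem T2pull_pull (f : PresHom P P') (g : PresHom P' P) (z : T2 P M) : f.T2pull M (g.T2pull M z) = z := by
  rw [← T2pull_presComp, T2pull_eq (presComp g f) (PresHom.id P), T2pull_id]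

theorem T1pull_pull (f : PresHom P P') (g : PresHom P' P) (z : T1 P M) : f.T1pull M (g.T1pull M z) = z := by
  rw [← T1pull_presComp, T1pull_eq (presComp g f) (PresHom.id P), T1pull_id]

theorem T0pull_pull (f : PresHom P P') (g : PresHom P' P) (z : T0 P M) : f.T0pull M (g.T0pull M z) = z := by
  rw [← T0pull_presComp, T0pull_eq (presComp g f) (PresHom.id P), T0pull_id]

variable (P P')

/-- `T⁰` does not depend on the presentation. -/
def T0equiv : T0 P M ≃ₗ[B] T0 P' M :=
  LinearEquiv.ofLinear ((presHom P' P).T0pull M) ((presHom P P').T0pull M)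
    (LinearMap.ext fun z => (LinearMap.comp_apply _ _ z).trans (T0pull_pull M (presHom P' P) (presHom P P') z))
    (LinearMap.ext fun z => (LinearMap.comp_apply _ _ z).trans (T0pull_pull M (presHom P P') (presHom P' P) z))

/-- `T¹` does not depend on the presentation. -/
def T1equiv : T1 P M ≃ₗ[B] T1 P' M :=
  LinearEquiv.ofLinear ((presHom P' P).T1pull M) ((presHom P P').T1pull M)
    (LinearMap.ext fun z => (LinearMap.comp_apply _ _ z).trans (T1pull_pull M (presHom P' P) (presHom P P') z))
    (LinearMap.ext fun z => (LinearMap.comp_apply _ _ z).trans (T1pull_pull M (presHom P P') (presHom P' P) z))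

/-- `T²` does not depend on the presentation. -/
def T2equiv : T2 P M ≃ₗ[B] T2 P' M :=
  LinearEquiv.ofLinear ((presHom P' P).T2pull M) ((presHom P P').T2pull M)
    (LinearMap.ext fun z => (LinearMap.comp_apply _ _ z).trans (T2pull_pull M (presHom P' P) (presHom P P') z))
    (LinearMap.ext fun z => (LinearMap.comp_apply _ _ z).trans (T2pull_pull M (presHom P P') (presHom P' P) z))

end Same

end Groth.Agent.CotTLib
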