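import Groth.Agent.CotTLib.Basic
import Groth.Prelude.Def_Exal

/-!
# Extensions of an algebra by a module and `T¹`
-/

universe u

open TensorProduct

noncomputable section

namespace Groth.Agent.CotTLib

open CotT

variable {A B : Type u} {ι σ : Type u} [CommRing A] [CommRing B] [Algebra A B]
variable (P : Algebra.Presentation A B ι σ) {L : Type u} [AddCommGroup L] [Module B L]

/-- `c` is the cocycle of the extension `X` at the lift `φ` of the variables. -/
def IsCocycleAt (X : Exal.Ext A B L) (φ : P.toExtension.Ring →ₐ[A] X.E) (c : cocycles1 P L) : Prop :=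
  (∀ r, X.proj (φ r) = algebraMap P.toExtension.Ring B r) ∧
    ∀ f, X.incl ((c : L1 P →ₗ[B] L) (toL1 P f)) = φ (jmap P f)

variable {P}

theorem algHom_ext_X {S : Type*} [Semiring S] [Algebra A S] {φ ψ : P.toExtension.Ring →ₐ[A] S}
    (h : ∀ i, φ (MvPolynomial.X i : P.toExtension.Ring) = ψ (MvPolynomial.X i : P.toExtension.Ring)) : φ = ψ :=
  MvPolynomial.algHom_ext h

theorem incl_mul_incl (X : Exal.Ext A B L) (z w : L) : X.incl z * X.incl w = 0 := by
  rw [X.isExtension.mul_incl, (X.isExtension.exact _).2 ⟨z, rfl⟩, zero_smul, map_zero]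

variable (P) in
theorem exists_lift (X : Exal.Ext A B L) :
    ∃ φ : P.toExtension.Ring →ₐ[A] X.E, ∀ r, X.proj (φ r) = algebraMap P.toExtension.Ring B r := by
  choose s hs using fun i => X.isExtension.proj_surjective (P.val i)
  let φ : P.toExtension.Ring →ₐ[A] X.E := MvPolynomial.aeval s
  refine ⟨φ, fun r => ?_⟩
  have h : X.proj.comp φ = IsScalarTower.toAlgHom A P.toExtension.Ring B := algHom_ext_X fun i => by
    refine Eq.trans ?_ (((algebraMap_toExtension P _).trans (MvPolynomial.aeval_X P.val i)).symm)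
    exact (congrArg X.proj (MvPolynomial.aeval_X s i)).trans (hs i)
  exact DFunLike.congr_fun h r

theorem exists_cocycleAt (X : Exal.Ext A B L) (φ : P.toExtension.Ring →ₐ[A] X.E)
    (hφ : ∀ r, X.proj (φ r) = algebraMap P.toExtension.Ring B r) : ∃ c, IsCocycleAt P X φ c := by
  have h0 : ∀ s, X.proj (φ (rel P s)) = 0 := fun s => by rw [hφ, algebraMap_rel]
  let c := mkL1 P L fun s => X.kerLift _ (h0 s)
  have hc : ∀ f, X.incl (c (toL1 P f)) = φ (jmap P f) := fun f => by
    induction f using Finsupp.induction_linear with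
    | zero => simp
    | add x y hx hy => simp only [map_add, hx, hy]
    | single s r =>
      rw [mkL1_single, jmap_single, map_mul, ← hφ r, ← X.isExtension.mul_incl, Exal.Ext.incl_kerLift]
  refine ⟨⟨c, L2_ext fun q => X.isExtension.incl_injective ?_⟩, hφ, hc⟩
  show X.incl (c (d2 P (toL2 P q))) = _
  rw [d2_toL2, hc, show jmap P (q : relMod P) = 0 from q.2, map_zero, LinearMap.zero_apply, map_zero]

/-- Changing a lift by a map on `L₀`. -/
theorem exists_shift {X : Exal.Ext A B L} {φ : P.toExtension.Ring →ₐ[A] X.E} {c : cocycles1 P L}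
    (hc : IsCocycleAt P X φ c) (ψ : L0 P →ₗ[B] L) :
    ∃ φ' : P.toExtension.Ring →ₐ[A] X.E,
      (∀ r, φ' r = φ r + X.incl (ψ ((1 : B) ⊗ₜ KaehlerDifferential.D A P.toExtension.Ring r))) ∧
      ∀ c' : cocycles1 P L, (c' : L1 P →ₗ[B] L) = c + ψ ∘ₗ d1 P → IsCocycleAt P X φ' c' := by
  let D : P.toExtension.Ring → L := fun r => ψ ((1 : B) ⊗ₜ KaehlerDifferential.D A P.toExtension.Ring r)
  have hD : ∀ r s, D (r * s) =
      algebraMap P.toExtension.Ring B r • D s + algebraMap P.toExtension.Ring B s • D r := fun r s => by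
    simp only [D, Derivation.leibniz, TensorProduct.tmul_add, map_add, one_tmul_smul, map_smul]
  have hD1 : ∀ a : A, D (algebraMap A P.toExtension.Ring a) = 0 := fun a => by
    simp only [D, Derivation.map_algebraMap, TensorProduct.tmul_zero, map_zero]
  have hadd : ∀ r s, D (r + s) = D r + D s := fun r s => by simp only [D, map_add, TensorProduct.tmul_add]
  have hD0 : D 0 = 0 := by simp [D]
  have hD11 : D 1 = 0 := by simpa using hD1 1
  let φ' : P.toExtension.Ring →ₐ[A] X.E :=
    { toFun := fun r => φ r + X.incl (D r)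
      map_one' := by rw [map_one, hD11, map_zero, add_zero]
      map_mul' := fun r s => by
        rw [map_mul, hD, map_add, ← hc.1 r, ← hc.1 s, ← X.isExtension.mul_incl, ← X.isExtension.mul_incl]
        linear_combination -(incl_mul_incl X (D r) (D s))
      map_zero' := by rw [map_zero, hD0, map_zero, add_zero]
      map_add' := fun r s => by rw [map_add, hadd, map_add]; abel
      commutes' := fun a => by rw [hD1, map_zero, add_zero, AlgHom.commutes] }
  refine ⟨φ', fun r => rfl, fun c' hc' => ⟨fun r => ?_, fun f => ?_⟩⟩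
  · show X.proj (φ r + X.incl (D r)) = _
    rw [map_add, hc.1, (X.isExtension.exact _).2 ⟨_, rfl⟩, add_zero]
  · show _ = φ (jmap P f) + X.incl (D (jmap P f))
    rw [hc', LinearMap.add_apply, LinearMap.comp_apply, map_add, hc.2, toL1_apply, d1_tmul, one_smul]

/-- The class of the cocycle does not depend on the lift. -/
theorem cocycleAt_class_eq {X : Exal.Ext A B L} {φ φ' : P.toExtension.Ring →ₐ[A] X.E} {c c' : cocycles1 P L}
    (hc : IsCocycleAt P X φ c) (hc' : IsCocycleAt P X φ' c') :
    (Submodule.Quotient.mk c' : T1 P L) = Submodule.Quotient.mk c := by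
  have h0 : ∀ i : ι, X.proj (φ' (MvPolynomial.X i : P.toExtension.Ring) - φ (MvPolynomial.X i : P.toExtension.Ring)) = 0 :=
    fun i => (map_sub X.proj _ _).trans (sub_eq_zero.2 ((hc'.1 _).trans (hc.1 _).symm))
  let ψ : L0 P →ₗ[B] L := P.cotangentSpaceBasis.constr B fun i => X.kerLift _ (h0 i)
  obtain ⟨φ'', hφ'', hshift⟩ := exists_shift hc ψ
  have heq : φ' = φ'' := algHom_ext_X fun i => by
    have hi : ψ (P.cotangentSpaceBasis i) = X.kerLift _ (h0 i) := Module.Basis.constr_basis _ B _ i
    rw [Algebra.Generators.cotangentSpaceBasis_apply] at hi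
    exact (((hφ'' _).trans (congrArg (fun z => _ + X.incl z) hi)).trans
      (by rw [Exal.Ext.incl_kerLift]; abel)).symm
  refine (Submodule.Quotient.eq _).2 ⟨ψ, L1_ext fun f => X.isExtension.incl_injective ?_⟩
  show X.incl (ψ (d1 P (toL1 P f))) = X.incl ((c' : L1 P →ₗ[B] L) (toL1 P f) - (c : L1 P →ₗ[B] L) (toL1 P f))
  rw [map_sub, hc'.2, hc.2, heq, hφ'', add_sub_cancel_left, toL1_apply, d1_tmul, one_smul]

theorem cocycleAt_of_equiv {X Y : Exal.Ext A B L} (e : Exal.Ext.Equiv X Y)
    {φ : P.toExtension.Ring →ₐ[A] X.E} {c : cocycles1 P L} (hc : IsCocycleAt P X φ c) :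
    IsCocycleAt P Y ((e.toAlgEquiv : X.E →ₐ[A] Y.E).comp φ) c :=
  ⟨fun r => (e.proj_apply _).trans (hc.1 r),
    fun f => ((e.apply_incl _).symm.trans (congrArg e.toAlgEquiv (hc.2 f)) : _)⟩

/-- Two extensions with the same cocycle are equivalent. -/
theorem nonempty_equiv {X Y : Exal.Ext A B L} {φ : P.toExtension.Ring →ₐ[A] X.E} {ψ : P.toExtension.Ring →ₐ[A] Y.E}
    {c : cocycles1 P L} (hX : IsCocycleAt P X φ c) (hY : IsCocycleAt P Y ψ c) : Nonempty (Exal.Ext.Equiv X Y) := by
  have gen : ∀ {X Y : Exal.Ext A B L} {φ : P.toExtension.Ring →ₐ[A] X.E} {ψ : P.toExtension.Ring →ₐ[A] Y.E},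
      IsCocycleAt P X φ c → IsCocycleAt P Y ψ c → ∀ r z, φ r + X.incl z = 0 → ψ r + Y.incl z = 0 := by
    intro X Y φ ψ hX hY r z h
    have hr : algebraMap P.toExtension.Ring B r = 0 := by
      have := congrArg X.proj h
      rwa [map_add, hX.1, (X.isExtension.exact _).2 ⟨_, rfl⟩, add_zero, map_zero] at this
    obtain ⟨f, hf⟩ : r ∈ LinearMap.range (jmap P) := by rw [range_jmap]; exact hr
    subst hf
    rw [← hX.2, ← map_add] at h
    rw [← hY.2, ← map_add, X.isExtension.incl_injective (h.trans (map_zero _).symm), map_zero]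
  have hsurj : ∀ {X : Exal.Ext A B L} {φ : P.toExtension.Ring →ₐ[A] X.E}, IsCocycleAt P X φ c →
      ∀ x : X.E, ∃ r z, φ r + X.incl z = x := by
    intro X φ hX x
    obtain ⟨r, hr⟩ := algebraMap_surjective (P := P) (X.proj x)
    have h0 : X.proj (x - φ r) = 0 := by rw [map_sub, hX.1, hr, sub_self]
    exact ⟨r, X.kerLift _ h0, by rw [Exal.Ext.incl_kerLift]; abel⟩
  choose r z hrz using hsurj hX
  have hwd : ∀ (x : X.E) r' z', φ r' + X.incl z' = x → ψ (r x) + Y.incl (z x) = ψ r' + Y.incl z' := by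
    intro x r' z' h
    have := gen hX hY (r x - r') (z x - z') (by
      rw [map_sub, map_sub]
      linear_combination hrz x - h)
    rw [map_sub, map_sub] at this
    linear_combination this
  let F : X.E →ₐ[A] Y.E :=
    { toFun := fun x => ψ (r x) + Y.incl (z x)
      map_one' := (hwd 1 1 0 (by rw [map_one, map_zero, add_zero])).trans (by rw [map_one, map_zero, add_zero])
      map_mul' := fun x y => by
        refine (hwd (x * y) (r x * r y)
          (algebraMap P.toExtension.Ring B (r x) • z y + algebraMap P.toExtension.Ring B (r y) • z x) ?_).trans ?_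
        · rw [map_mul, map_add, ← hX.1, ← hX.1, ← X.isExtension.mul_incl, ← X.isExtension.mul_incl]
          linear_combination (φ (r y) + X.incl (z y)) * hrz x + x * hrz y - incl_mul_incl X (z x) (z y)
        · rw [map_mul, map_add, ← hY.1, ← hY.1, ← Y.isExtension.mul_incl, ← Y.isExtension.mul_incl]
          linear_combination -(incl_mul_incl Y (z x) (z y))
      map_zero' := (hwd 0 0 0 (by rw [map_zero, map_zero, add_zero])).trans (by rw [map_zero, map_zero, add_zero])
      map_add' := fun x y => by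
        refine (hwd (x + y) (r x + r y) (z x + z y) ?_).trans ?_
        · rw [map_add, map_add]
          linear_combination hrz x + hrz y
        · rw [map_add, map_add]; abel
      commutes' := fun a => (hwd _ (algebraMap A _ a) 0 (by rw [AlgHom.commutes, map_zero, add_zero])).trans
        (by rw [AlgHom.commutes, map_zero, add_zero]) }
  have hbij : Function.Bijective F := by
    refine ⟨(injective_iff_map_eq_zero F).2 fun x hx => ?_, fun y => ?_⟩
    · rw [← hrz x]
      exact gen hY hX _ _ hx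
    · obtain ⟨r', z', h⟩ := hsurj hY y
      exact ⟨φ r' + X.incl z', (hwd _ r' z' rfl).trans h⟩
  refine ⟨⟨AlgEquiv.ofBijective F hbij, fun x => ?_, fun w => ?_⟩⟩
  · show Y.proj (ψ (r x) + Y.incl (z x)) = X.proj x
    conv_rhs => rw [← hrz x]
    rw [map_add, map_add, hY.1, hX.1, (X.isExtension.exact _).2 ⟨_, rfl⟩, (Y.isExtension.exact _).2 ⟨_, rfl⟩]
  · exact (hwd _ 0 w (by rw [map_zero, zero_add])).trans (by rw [map_zero, zero_add])

attribute [local instance] Exal.opModule Exal.isCentralScalar_opModule in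
theorem exists_ext (c : cocycles1 P L) :
    ∃ (X : Exal.Ext A B L) (φ : P.toExtension.Ring →ₐ[A] X.E), IsCocycleAt P X φ c := by
  letI : Module P.toExtension.Ring L := Module.compHom L (algebraMap P.toExtension.Ring B)
  let X0 : Exal.Ext A P.toExtension.Ring L := Exal.Ext.trivial A P.toExtension.Ring L
  let cf : relMod P → L := fun f => (c : L1 P →ₗ[B] L) (toL1 P f)
  have hcQ : ∀ f, jmap P f = 0 → cf f = 0 := fun f hf => by
    have h := LinearMap.congr_fun (c.2 : (c : L1 P →ₗ[B] L) ∘ₗ d2 P = 0) (toL2 P ⟨f, hf⟩)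
    exact (congrArg (c : L1 P →ₗ[B] L) (d2_toL2 (⟨f, hf⟩ : relKer P))).symm.trans h
  let J : Ideal X0.E :=
    { carrier := {x | ∃ f, X0.proj x = jmap P f ∧ TrivSqZeroExt.snd x = -cf f}
      add_mem' := by
        rintro x y ⟨f, h1, h2⟩ ⟨g, h3, h4⟩
        refine ⟨f + g, by rw [map_add, map_add, h1, h3], ?_⟩
        refine (TrivSqZeroExt.snd_add x y).trans ?_
        rw [h2, h4]; simp only [cf, map_add]; abel
      zero_mem' := ⟨0, by rw [map_zero, map_zero], by simp [cf]; rfl⟩
      smul_mem' := by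
        rintro a x ⟨f, h1, h2⟩
        refine ⟨X0.proj a • f, by rw [smul_eq_mul, map_mul, h1, map_smul, smul_eq_mul], ?_⟩
        refine (TrivSqZeroExt.snd_mul a x).trans ?_
        show algebraMap P.toExtension.Ring B (X0.proj a) • TrivSqZeroExt.snd x +
          algebraMap P.toExtension.Ring B (X0.proj x) • TrivSqZeroExt.snd a = _
        rw [h1, algebraMap_jmap, zero_smul, add_zero, h2]
        simp only [cf, toL1_smul, map_smul, smul_neg] }
  have hJproj : ∀ x ∈ J, ((IsScalarTower.toAlgHom A P.toExtension.Ring B).comp X0.proj) x = 0 := by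
    rintro x ⟨f, h1, -⟩
    show algebraMap P.toExtension.Ring B (X0.proj x) = 0
    rw [h1, algebraMap_jmap]
  let p : X0.E ⧸ J →ₐ[A] B :=
    Ideal.Quotient.liftₐ J ((IsScalarTower.toAlgHom A P.toExtension.Ring B).comp X0.proj) hJproj
  let i : L →+ X0.E ⧸ J := (Ideal.Quotient.mk J).toAddMonoidHom.comp X0.incl
  let sec : P.toExtension.Ring →ₐ[A] X0.E :=
    { toRingHom := TrivSqZeroExt.inlHom P.toExtension.Ring L, commutes' := fun _ => rfl }
  have hsplit : ∀ x : X0.E, x = sec (X0.proj x) + X0.incl (TrivSqZeroExt.snd x) := fun x =>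
    (TrivSqZeroExt.inl_fst_add_inr_snd_eq x).symm
  have hi : Exal.IsExtension p i := by
    refine ⟨fun b => ?_, (injective_iff_map_eq_zero i).2 fun z hz => ?_, fun x => ?_, fun x z => ?_⟩
    · obtain ⟨r, rfl⟩ := algebraMap_surjective (P := P) b
      exact ⟨Ideal.Quotient.mk J (sec r), rfl⟩
    · obtain ⟨f, h1, h2⟩ := Ideal.Quotient.eq_zero_iff_mem.1 hz
      rw [(X0.isExtension.exact _).2 ⟨z, rfl⟩] at h1
      rw [hcQ f h1.symm, neg_zero] at h2
      exact h2
    · obtain ⟨x, rfl⟩ := Ideal.Quotient.mk_surjective x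
      constructor
      · intro hx
        obtain ⟨f, hf⟩ : X0.proj x ∈ LinearMap.range (jmap P) := by rw [range_jmap]; exact hx
        refine ⟨TrivSqZeroExt.snd x + cf f, (Ideal.Quotient.mk_eq_mk_iff_sub_mem _ _).2 ⟨-f, ?_, ?_⟩⟩
        · rw [map_sub, (X0.isExtension.exact _).2 ⟨_, rfl⟩, zero_sub, map_neg, hf]
        · refine (TrivSqZeroExt.snd_sub _ x).trans ?_
          show TrivSqZeroExt.snd x + cf f - TrivSqZeroExt.snd x = -cf (-f)
          simp [cf]
      · rintro ⟨z, hz⟩
        rw [← hz]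
        show algebraMap P.toExtension.Ring B (X0.proj (X0.incl z)) = 0
        rw [(X0.isExtension.exact _).2 ⟨_, rfl⟩, map_zero]
    · obtain ⟨x, rfl⟩ := Ideal.Quotient.mk_surjective x
      show Ideal.Quotient.mk J x * Ideal.Quotient.mk J (X0.incl z) = _
      rw [← map_mul, X0.isExtension.mul_incl]
      rfl
  refine ⟨⟨X0.E ⧸ J, p, i, hi⟩, (Ideal.Quotient.mkₐ A J).comp sec, fun r => rfl, fun f => ?_⟩
  refine ((Ideal.Quotient.mk_eq_mk_iff_sub_mem _ _).2 ⟨-f, ?_, ?_⟩ :
    Ideal.Quotient.mk J (X0.incl (cf f)) = Ideal.Quotient.mk J (sec (jmap P f)))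
  · rw [map_sub, (X0.isExtension.exact _).2 ⟨_, rfl⟩, zero_sub, map_neg]
    rfl
  · refine (TrivSqZeroExt.snd_sub _ _).trans ?_
    show cf f - 0 = -cf (-f)
    simp [cf]

variable (P L) in
/-- Extensions of `B` by `L` are classified by `T¹`. -/
theorem exists_exalcom_equiv : ∃ e : Exal.Exalcom A B L ≃ T1 P L, e 0 = 0 := by
  choose φ hφ using fun X : Exal.Ext A B L => exists_lift P X
  choose c hc using fun X : Exal.Ext A B L => exists_cocycleAt X (φ X) (hφ X)
  have hrespect : ∀ X Y : Exal.Ext A B L, Nonempty (Exal.Ext.Equiv X Y) →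
      (Submodule.Quotient.mk (c X) : T1 P L) = Submodule.Quotient.mk (c Y) := fun X Y ⟨e⟩ =>
    cocycleAt_class_eq (hc Y) (cocycleAt_of_equiv e (hc X))
  let F : Exal.Exalcom A B L → T1 P L := Quotient.lift (fun X => Submodule.Quotient.mk (c X)) hrespect
  have hinj : Function.Injective F := by
    intro a b hab
    obtain ⟨X, rfl⟩ := Quotient.exists_rep a
    obtain ⟨Y, rfl⟩ := Quotient.exists_rep b
    obtain ⟨ψ, hψ⟩ := (Submodule.Quotient.eq _).1 (hab : (Submodule.Quotient.mk (c X) : T1 P L) = Submodule.Quotient.mk (c Y))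
    obtain ⟨φ', -, hshift⟩ := exists_shift (hc Y) ψ
    refine Quotient.sound (nonempty_equiv (hc X) (hshift (c X) ?_))
    rw [← d1Star_apply, hψ, Submodule.subtype_apply, Submodule.coe_sub]; abel
  have hsurj : Function.Surjective F := fun z => by
    obtain ⟨c', rfl⟩ := Submodule.Quotient.mk_surjective _ z
    obtain ⟨X, φ', hc'⟩ := exists_ext c'
    exact ⟨X.cl, cocycleAt_class_eq hc' (hc X)⟩
  refine ⟨Equiv.ofBijective F ⟨hinj, hsurj⟩, ?_⟩
  let X0 := Exal.Ext.trivial A B L
  let sec : B →ₐ[A] X0.E :=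
    (letI := Exal.opModule B L; letI := Exal.isCentralScalar_opModule B L;
      { toRingHom := TrivSqZeroExt.inlHom B L, commutes' := fun _ => rfl })
  have h0 : IsCocycleAt P X0 (sec.comp (IsScalarTower.toAlgHom A P.toExtension.Ring B)) 0 := by
    refine ⟨fun r => rfl, fun f => ?_⟩
    show X0.incl 0 = sec (algebraMap P.toExtension.Ring B (jmap P f))
    rw [algebraMap_jmap, map_zero, map_zero]
  exact (cocycleAt_class_eq h0 (hc X0)).trans (Submodule.Quotient.mk_zero _)

end Groth.Agent.CotTLib
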