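import Groth.Agent.CotTLib.Basic

/-!
# Two morphisms of presentations over the same square induce the same maps on `T⁰`, `T¹`, `T²`
-/

universe u v w t u' v' w' t' m

open TensorProduct

noncomputable section

namespace Groth.Agent.CotTLib

open CotT

section RelV

variable {A : Type u} {B : Type v} {ι : Type w} {σ : Type t}
variable [CommRing A] [CommRing B] [Algebra A B]
variable (P : Algebra.Presentation A B ι σ)

/-- The relations modulo the trivial relations, with the product `v * w = j(v) • w`. -/
def RelV : Type (max t w u) := relMod P ⧸ trivRel P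

instance : AddCommGroup (RelV P) := inferInstanceAs (AddCommGroup (relMod P ⧸ trivRel P))
instance : Module P.toExtension.Ring (RelV P) :=
  inferInstanceAs (Module P.toExtension.Ring (relMod P ⧸ trivRel P))

/-- The class of an element of `F`. -/
def toV : relMod P →ₗ[P.toExtension.Ring] RelV P := (trivRel P).mkQ

theorem toV_surjective : Function.Surjective (toV P) := Submodule.mkQ_surjective _

theorem toV_eq_toV {x y : relMod P} : toV P x = toV P y ↔ x - y ∈ trivRel P :=
  Submodule.Quotient.eq _

/-- `j` on `RelV`. -/
def jV : RelV P →ₗ[P.toExtension.Ring] P.toExtension.Ring :=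
  (trivRel P).liftQ (jmap P) fun x hx => trivRel_le_relKer P hx

@[simp] theorem jV_toV (x : relMod P) : jV P (toV P x) = jmap P x := rfl

theorem jV_smul_comm (v w : RelV P) : jV P v • w = jV P w • v := by
  obtain ⟨a, rfl⟩ := toV_surjective P v
  obtain ⟨b, rfl⟩ := toV_surjective P w
  rw [jV_toV, jV_toV, ← map_smul, ← map_smul, toV_eq_toV]
  exact Submodule.subset_span ⟨a, b, rfl⟩

instance : Mul (RelV P) := ⟨fun v w => jV P v • w⟩

theorem relV_mul_def (v w : RelV P) : v * w = jV P v • w := rfl

instance : NonUnitalCommRing (RelV P) where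
  left_distrib a b c := smul_add (jV P a) b c
  right_distrib a b c := by
    show jV P (a + b) • c = jV P a • c + jV P b • c
    rw [map_add, add_smul]
  zero_mul a := by show jV P 0 • a = 0; rw [map_zero, zero_smul]
  mul_zero a := smul_zero (jV P a)
  mul_assoc a b c := by
    show jV P (jV P a • b) • c = jV P a • jV P b • c
    rw [map_smul, smul_eq_mul, mul_smul]
  mul_comm a b := jV_smul_comm P a b

instance : IsScalarTower P.toExtension.Ring (RelV P) (RelV P) := ⟨fun r v w => by
  show jV P (r • v) • w = r • jV P v • w
  rw [map_smul, smul_eq_mul, mul_smul]⟩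

instance : SMulCommClass P.toExtension.Ring (RelV P) (RelV P) := ⟨fun r v w => by
  show r • jV P v • w = jV P v • r • w
  rw [smul_comm]⟩

/-- `(r, v) ↦ r + j v`. -/
def unitToRing : Unitization P.toExtension.Ring (RelV P) →+* P.toExtension.Ring where
  toFun z := z.fst + jV P z.snd
  map_one' := by simp
  map_mul' a b := by
    simp only [Unitization.fst_mul, Unitization.snd_mul, map_add, map_smul, relV_mul_def, smul_eq_mul]
    ring
  map_zero' := by simp
  map_add' a b := by simp only [Unitization.fst_add, Unitization.snd_add, map_add]; ring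

end RelV

section Semi

variable {A : Type u} {B : Type v} {ι : Type w} {σ : Type t}
variable {A' : Type u'} {B' : Type v'} {ι' : Type w'} {σ' : Type t'}
variable [CommRing A] [CommRing B] [Algebra A B] [CommRing A'] [CommRing B'] [Algebra A' B']
variable [Algebra A A'] [Algebra B B'] [Algebra A B'] [IsScalarTower A A' B'] [IsScalarTower A B B']
variable {P : Algebra.Presentation A B ι σ} {P' : Algebra.Presentation A' B' ι' σ'}

@[simp] theorem L1map_toL1 (h : PresHom P P') (f : relMod P) :
    h.L1map (toL1 P f) = toL1 P' (h.relModMap f) := by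
  rw [toL1_apply, PresHom.L1map_tmul, map_one]; rfl

@[simp] theorem L2map_toL2 (h : PresHom P P') (q : relKer P) :
    h.L2map (toL2 P q) = toL2 P' (h.relKerMap q) := by
  show h.L2map (Submodule.Quotient.mk ((1 : B) ⊗ₜ q)) = _
  rw [PresHom.L2map_mk_tmul, map_one]; rfl

theorem ringHom_algebraMap (h : PresHom P P') (a : A) :
    h.ringHom (algebraMap A P.toExtension.Ring a) =
      algebraMap A' P'.toExtension.Ring (algebraMap A A' a) :=
  h.hom.toExtensionHom.toRingHom_algebraMap a

variable (h h' : PresHom P P')

/-- The twisted derivation between the ring maps of two morphisms: `R → R' ⊕ V'`. -/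
theorem exists_twistedDeriv : ∃ D : P.toExtension.Ring → RelV P',
    (∀ a b, D (a + b) = D a + D b) ∧
    (∀ a b, D (a * b) = h.ringHom a • D b + h'.ringHom b • D a) ∧
    (∀ a, jV P' (D a) = h.ringHom a - h'.ringHom a) := by
  have hex : ∀ i : ι, ∃ v : relMod P', jmap P' v =
      h.ringHom (MvPolynomial.X i : P.toExtension.Ring) - h'.ringHom (MvPolynomial.X i : P.toExtension.Ring) := by
    intro i
    rw [← LinearMap.mem_range, range_jmap]
    exact (RingHom.map_sub _ _ _).trans
      (sub_eq_zero.2 ((h.algebraMap_ringHom _).trans (h'.algebraMap_ringHom _).symm))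
  choose v hv using hex
  let Θ : P.toExtension.Ring →+* Unitization P'.toExtension.Ring (RelV P') :=
    MvPolynomial.eval₂Hom
      ((Unitization.inlRingHom P'.toExtension.Ring (RelV P')).comp
        ((algebraMap A' P'.toExtension.Ring).comp (algebraMap A A')))
      (fun i => Unitization.inl (h'.ringHom (MvPolynomial.X i : P.toExtension.Ring)) + Unitization.inr (toV P' (v i)))
  have hC : ∀ a : A, Θ (MvPolynomial.C a) =
      Unitization.inl (algebraMap A' P'.toExtension.Ring (algebraMap A A' a)) :=
    fun a => MvPolynomial.eval₂Hom_C _ _ a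
  have hX : ∀ i, Θ (MvPolynomial.X i) = Unitization.inl (h'.ringHom (MvPolynomial.X i : P.toExtension.Ring)) +
      Unitization.inr (toV P' (v i)) := fun i => MvPolynomial.eval₂Hom_X' _ _ i
  have hfst : (Unitization.fstHom P'.toExtension.Ring (RelV P')).toRingHom.comp Θ = h'.ringHom := by
    refine MvPolynomial.ringHom_ext (fun a => ?_) (fun i => ?_)
    · refine (congrArg (Unitization.fstHom P'.toExtension.Ring (RelV P')) (hC a)).trans ?_
      exact (ringHom_algebraMap h' a).symm
    · refine (congrArg (Unitization.fstHom P'.toExtension.Ring (RelV P')) (hX i)).trans ?_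
      show (Unitization.inl _ + Unitization.inr _ : Unitization P'.toExtension.Ring (RelV P')).fst = _
      rw [Unitization.fst_add, Unitization.fst_inl, Unitization.fst_inr, add_zero]
      rfl
  have hpsi : (unitToRing P').comp Θ = h.ringHom := by
    refine MvPolynomial.ringHom_ext (fun a => ?_) (fun i => ?_)
    · refine (congrArg (unitToRing P') (hC a)).trans ?_
      refine Eq.trans ?_ (ringHom_algebraMap h a).symm
      exact add_eq_left.2 (map_zero (jV P'))
    · refine (congrArg (unitToRing P') (hX i)).trans ?_
      show (Unitization.inl _ + Unitization.inr _ : Unitization P'.toExtension.Ring (RelV P')).fst +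
        jV P' (Unitization.inl _ + Unitization.inr _ : Unitization P'.toExtension.Ring (RelV P')).snd = _
      rw [Unitization.fst_add, Unitization.snd_add, Unitization.fst_inl, Unitization.fst_inr, Unitization.snd_inl,
        Unitization.snd_inr, add_zero, zero_add, jV_toV, hv, add_sub_cancel]
      rfl
  have hj : ∀ a, jV P' (Θ a).snd = h.ringHom a - h'.ringHom a := fun a => by
    rw [← hfst, ← hpsi]
    exact (add_sub_cancel_left (Θ a).fst (jV P' (Θ a).snd)).symm
  refine ⟨fun a => (Θ a).snd, fun a b => by simp only [map_add, Unitization.snd_add], fun a b => ?_, hj⟩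
  have h1 : ∀ a, (Θ a).fst = h'.ringHom a := fun a => DFunLike.congr_fun hfst a
  simp only [map_mul, Unitization.snd_mul, relV_mul_def, hj, h1, sub_smul]
  abel

/-- The homotopy on relations: for `q` in the relation module the two images differ by a map defined on `F`
modulo trivial relations. -/
theorem exists_relKer_homotopy : ∃ η : σ → relKer P',
    ∀ q : relKer P, h.relModMap (q : relMod P) - h'.relModMap (q : relMod P) -
      Finsupp.linearCombination P'.toExtension.Ring (fun s => (η s : relMod P'))
        (Finsupp.mapRange h'.ringHom (map_zero _) (q : relMod P)) ∈ trivRel P' := by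
  obtain ⟨D, hadd, hmul, hj⟩ := exists_twistedDeriv h h'
  have hex : ∀ s, ∃ y : relKer P', toV P' (y : relMod P') =
      toV P' (h.relVal s) - toV P' (h'.relVal s) - D (rel P s) := by
    intro s
    obtain ⟨u, hu⟩ := toV_surjective P' (D (rel P s))
    refine ⟨⟨h.relVal s - h'.relVal s - u, ?_⟩, by rw [map_sub, map_sub, hu]⟩
    show jmap P' _ = 0
    rw [map_sub, map_sub, ← jV_toV P' u, hu, hj, h.jmap_relVal, h'.jmap_relVal, sub_self]
  choose η hη using hex
  refine ⟨η, fun q => ?_⟩
  have hD0 : D 0 = 0 := left_eq_add.1 ((congrArg D (add_zero 0).symm).trans (hadd 0 0))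
  have key : ∀ f : relMod P, toV P' (h.relModMap f) - toV P' (h'.relModMap f) =
      toV P' (Finsupp.linearCombination P'.toExtension.Ring (fun s => (η s : relMod P'))
        (Finsupp.mapRange h'.ringHom (map_zero _) f)) + D (jmap P f) := by
    intro f
    induction f using Finsupp.induction_linear with
    | zero => simp [hD0]
    | add f g hf hg =>
      simp only [map_add, Finsupp.mapRange_add (map_add _), hadd]
      rw [add_sub_add_comm, hf, hg]
      abel
    | single s a =>
      rw [Finsupp.mapRange_single, Finsupp.linearCombination_single, PresHom.relModMap_single,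
        PresHom.relModMap_single, map_smul, map_smul, map_smul, hη, jmap_single, mul_comm a, hmul]
      have e1 : jV P' (D a) • toV P' (h.relVal s) = h.ringHom (rel P s) • D a := by
        rw [jV_smul_comm, jV_toV, h.jmap_relVal]
      have e2 : jV P' (D a) • D (rel P s) = jV P' (D (rel P s)) • D a := jV_smul_comm P' _ _
      rw [hj, sub_smul] at e1 e2
      rw [hj, sub_smul] at e2
      simp only [smul_sub]
      rw [← sub_eq_zero] at e1 e2 ⊢
      linear_combination (norm := abel) e1
  have hq := key q
  rw [show jmap P (q : relMod P) = 0 from q.2, hD0, add_zero, ← map_sub] at hq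
  exact (toV_eq_toV P').1 hq

variable (M' : Type m) [AddCommGroup M'] [Module B' M'] [Module B M'] [IsScalarTower B B' M']

theorem pull2_sub_pull2 (α : L2 P' →ₗ[B'] M') :
    ∃ φ : L1 P →ₗ[B] M', φ ∘ₗ d2 P = h.pull2 M' α - h'.pull2 M' α := by
  obtain ⟨η, hη⟩ := exists_relKer_homotopy h h'
  refine ⟨mkL1 P M' fun s => α (toL2 P' (η s)), L2_ext fun q => ?_⟩
  let E : relMod P → relKer P' := fun f =>
    Finsupp.linearCombination P'.toExtension.Ring η (Finsupp.mapRange h'.ringHom (map_zero _) f)
  have hE : ∀ f, (E f : relMod P') = Finsupp.linearCombination P'.toExtension.Ring (fun s => (η s : relMod P'))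
      (Finsupp.mapRange h'.ringHom (map_zero _) f) := fun f =>
    Finsupp.apply_linearCombination _ (relKer P').subtype η _
  have h1 : ∀ f : relMod P, mkL1 P M' (fun s => α (toL2 P' (η s))) (toL1 P f) = α (toL2 P' (E f)) := by
    intro f
    induction f using Finsupp.induction_linear with
    | zero => simp [E]
    | add f g hf hg => simp only [E, map_add, Finsupp.mapRange_add (map_add _)] at hf hg ⊢; rw [hf, hg]
    | single s a =>
      simp only [E, mkL1_single, Finsupp.mapRange_single, Finsupp.linearCombination_single, toL2_smul, map_smul]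
      rw [PresHom.algebraMap_ringHom, IsScalarTower.algebraMap_smul B']
  rw [LinearMap.comp_apply, d2_toL2, h1, LinearMap.sub_apply, PresHom.pull2_apply, PresHom.pull2_apply,
    L2map_toL2, L2map_toL2, ← map_sub, ← map_sub]
  refine congrArg α (toL2_eq_of_sub_mem_trivRel ?_)
  rw [Submodule.coe_sub, PresHom.relKerMap_coe, PresHom.relKerMap_coe, hE, ← neg_sub, Submodule.neg_mem_iff]
  exact hη q

theorem T2pull_eq : h.T2pull M' = h'.T2pull M' := by
  refine LinearMap.ext fun z => ?_
  obtain ⟨α, rfl⟩ := Submodule.Quotient.mk_surjective _ z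
  refine (Submodule.Quotient.eq _).2 ?_
  obtain ⟨φ, hφ⟩ := pull2_sub_pull2 h h' M' α
  exact ⟨φ, hφ⟩

theorem pull1_comp_toCot (g : P'.toExtension.Cotangent →ₗ[B'] M') (x : L1 P) :
    h.pull1 M' (g ∘ₗ toCot P') x = g (h.cotMap (toCot P x)) := by
  rw [PresHom.pull1_apply, LinearMap.comp_apply, PresHom.toCot_L1map]

theorem T1pull_eq : h.T1pull M' = h'.T1pull M' := by
  refine LinearMap.ext fun z => ?_
  obtain ⟨g, rfl⟩ := homToT1_surjective z
  refine (Submodule.Quotient.eq _).2 ?_
  let S := h.hom.toExtensionHom.sub h'.hom.toExtensionHom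
  refine ⟨(g.restrictScalars B) ∘ₗ S, LinearMap.ext fun x => ?_⟩
  show g (S (d1 P x)) = h.pull1 M' (g ∘ₗ toCot P') x - h'.pull1 M' (g ∘ₗ toCot P') x
  rw [pull1_comp_toCot, pull1_comp_toCot, ← map_sub, PresHom.cotMap_apply, PresHom.cotMap_apply,
    ← LinearMap.sub_apply, Algebra.Extension.Cotangent.map_sub_map]
  rfl

theorem T0pull_eq : h.T0pull M' = h'.T0pull M' := by
  refine LinearMap.ext fun φ => Subtype.ext (LinearMap.ext fun x => ?_)
  have hφ : (φ : L0 P' →ₗ[B'] M') ∘ₗ P'.toExtension.cotangentComplex = 0 :=
    (ker_d1Star_eq (P := P') (M := M')).le φ.2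
  show (φ : L0 P' →ₗ[B'] M') (h.L0map x) = (φ : L0 P' →ₗ[B'] M') (h'.L0map x)
  rw [← sub_eq_zero, ← map_sub, PresHom.L0map_apply, PresHom.L0map_apply, ← LinearMap.sub_apply,
    Algebra.Extension.CotangentSpace.map_sub_map]
  exact LinearMap.congr_fun hφ _

end Semi

end Groth.Agent.CotTLib
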