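import Groth.Agent.CotTLib.Basic

/-!
# The long exact sequence of `Tⁱ` in the module
-/

universe u v w t m

open TensorProduct

noncomputable section

namespace Groth.Agent.CotTLib

open CotT

variable {B : Type v} [CommRing B]
variable {M' M M'' : Type m} [AddCommGroup M'] [Module B M'] [AddCommGroup M] [Module B M] [AddCommGroup M''] [Module B M'']
variable {f : M' →ₗ[B] M} {g : M →ₗ[B] M''}

theorem exists_factor (hf : Function.Injective f) (hfg : Function.Exact f g) {C : Type*} [AddCommGroup C] [Module B C]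
    (φ : C →ₗ[B] M) (h : g ∘ₗ φ = 0) : ∃ c : C →ₗ[B] M', f ∘ₗ c = φ := by
  have hmem : ∀ x, φ x ∈ LinearMap.range f := fun x => (hfg _).1 (LinearMap.congr_fun h x)
  refine ⟨(LinearEquiv.ofInjective f hf).symm.toLinearMap ∘ₗ φ.codRestrict _ hmem, LinearMap.ext fun x => ?_⟩
  exact congrArg Subtype.val ((LinearEquiv.ofInjective f hf).apply_symm_apply ⟨φ x, hmem x⟩)

theorem comp_left_injective (hf : Function.Injective f) {C : Type*} [AddCommGroup C] [Module B C]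
    {φ ψ : C →ₗ[B] M'} (h : f ∘ₗ φ = f ∘ₗ ψ) : φ = ψ :=
  LinearMap.ext fun x => hf (LinearMap.congr_fun h x)

/-- The connecting map `ker (d^* on Hom(C, M'')) → coker (d^* on Hom(-, M'))`. -/
theorem exists_connecting (hf : Function.Injective f) (hg : Function.Surjective g) (hfg : Function.Exact f g)
    {C C' : Type*} [AddCommGroup C] [Module B C] [AddCommGroup C'] [Module B C'] [Module.Projective B C]
    (d : C' →ₗ[B] C) :
    ∃ δ : LinearMap.ker (LinearMap.lcomp B M'' d) →ₗ[B] ((C' →ₗ[B] M') ⧸ LinearMap.range (LinearMap.lcomp B M' d)),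
      ∀ (φ : LinearMap.ker (LinearMap.lcomp B M'' d)) (ψ : C →ₗ[B] M) (c : C' →ₗ[B] M'),
        g ∘ₗ ψ = φ → f ∘ₗ c = ψ ∘ₗ d → δ φ = Submodule.Quotient.mk c := by
  have hex : ∀ φ : LinearMap.ker (LinearMap.lcomp B M'' d), ∃ (ψ : C →ₗ[B] M) (c : C' →ₗ[B] M'),
      g ∘ₗ ψ = φ ∧ f ∘ₗ c = ψ ∘ₗ d := fun φ => by
    obtain ⟨ψ, hψ⟩ := Module.projective_lifting_property g (φ : C →ₗ[B] M'') hg
    obtain ⟨c, hc⟩ := exists_factor hf hfg (ψ ∘ₗ d) (by
      rw [← LinearMap.comp_assoc, hψ]; exact φ.2)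
    exact ⟨ψ, c, hψ, hc⟩
  choose ψ c hψ hc using hex
  have huniq : ∀ (φ : LinearMap.ker (LinearMap.lcomp B M'' d)) (ψ' : C →ₗ[B] M) (c' : C' →ₗ[B] M'),
      g ∘ₗ ψ' = φ → f ∘ₗ c' = ψ' ∘ₗ d →
      (Submodule.Quotient.mk (c φ) : _ ⧸ LinearMap.range (LinearMap.lcomp B M' d)) = Submodule.Quotient.mk c' := by
    intro φ ψ' c' h1 h2
    obtain ⟨e, he⟩ := exists_factor hf hfg (ψ φ - ψ') (by rw [LinearMap.comp_sub, hψ, h1, sub_self])
    refine (Submodule.Quotient.eq _).2 ⟨e, comp_left_injective hf ?_⟩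
    show f ∘ₗ (e ∘ₗ d) = f ∘ₗ (c φ - c')
    rw [← LinearMap.comp_assoc, he, LinearMap.comp_sub, hc, h2, LinearMap.sub_comp]
  refine ⟨{ toFun := fun φ => Submodule.Quotient.mk (c φ), map_add' := fun a b => ?_, map_smul' := fun r a => ?_ },
    huniq⟩
  · exact huniq (a + b) (ψ a + ψ b) (c a + c b) (by rw [LinearMap.comp_add, hψ, hψ]; rfl)
      (by rw [LinearMap.comp_add, hc, hc, LinearMap.add_comp])
  · exact huniq (r • a) (r • ψ a) (r • c a) (by rw [LinearMap.comp_smul, hψ]; rfl)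
      (by rw [LinearMap.comp_smul, hc, LinearMap.smul_comp])

variable {A : Type u} {ι : Type w} {σ : Type t} [CommRing A] [Algebra A B]
variable {P : Algebra.Presentation A B ι σ}

theorem projective_L0 (P : Algebra.Presentation A B ι σ) : Module.Projective B (L0 P) :=
  Module.Projective.of_basis P.cotangentSpaceBasis

theorem projective_L1 (P : Algebra.Presentation A B ι σ) : Module.Projective B (L1 P) :=
  Module.Projective.of_basis (L1basis P)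

theorem T0map_injective (hf : Function.Injective f) : Function.Injective (T0map P f) := fun _ _ h =>
  Subtype.ext (comp_left_injective hf (congrArg Subtype.val h))

theorem exact_T0map (hf : Function.Injective f) (hfg : Function.Exact f g) :
    Function.Exact (T0map P f) (T0map P g) := by
  intro φ
  constructor
  · intro h
    obtain ⟨c, hc⟩ := exists_factor hf hfg (φ : L0 P →ₗ[B] M) (congrArg Subtype.val h)
    refine ⟨⟨c, comp_left_injective hf ?_⟩, Subtype.ext hc⟩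
    rw [LinearMap.comp_zero]
    show f ∘ₗ (c ∘ₗ d1 P) = 0
    rw [← LinearMap.comp_assoc, hc]
    exact φ.2
  · rintro ⟨c, rfl⟩
    refine Subtype.ext (LinearMap.ext fun x => ?_)
    exact hfg.apply_apply_eq_zero _

theorem exact_T1map (hf : Function.Injective f) (hg : Function.Surjective g) (hfg : Function.Exact f g) :
    Function.Exact (T1map P f) (T1map P g) := by
  intro z
  constructor
  · intro h
    obtain ⟨⟨φ, hφ⟩, rfl⟩ := Submodule.Quotient.mk_surjective _ z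
    obtain ⟨χ, hχ : χ ∘ₗ d1 P = g ∘ₗ φ⟩ := (Submodule.Quotient.mk_eq_zero _).1 h
    haveI := projective_L0 P
    obtain ⟨χ', hχ'⟩ := Module.projective_lifting_property g χ hg
    obtain ⟨c, hc⟩ := exists_factor hf hfg (φ - χ' ∘ₗ d1 P) (by
      rw [LinearMap.comp_sub, ← LinearMap.comp_assoc, hχ', hχ, sub_self])
    refine ⟨Submodule.Quotient.mk ⟨c, comp_left_injective hf ?_⟩, (Submodule.Quotient.eq _).2 ⟨-χ', ?_⟩⟩
    · rw [LinearMap.comp_zero]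
      show f ∘ₗ (c ∘ₗ d2 P) = 0
      rw [← LinearMap.comp_assoc, hc, LinearMap.sub_comp, LinearMap.comp_assoc, d1_comp_d2, LinearMap.comp_zero,
        sub_zero]
      exact hφ
    · show (-χ') ∘ₗ d1 P = f ∘ₗ c - φ
      rw [hc, LinearMap.neg_comp]; abel
  · rintro ⟨z, rfl⟩
    obtain ⟨⟨c, hc⟩, rfl⟩ := Submodule.Quotient.mk_surjective _ z
    refine (congrArg Submodule.Quotient.mk (Subtype.ext (LinearMap.ext fun x => ?_))).trans (Submodule.Quotient.mk_zero _)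
    exact hfg.apply_apply_eq_zero _

theorem exact_T2map (hf : Function.Injective f) (hg : Function.Surjective g) (hfg : Function.Exact f g) :
    Function.Exact (T2map P f) (T2map P g) := by
  intro z
  constructor
  · intro h
    obtain ⟨φ, rfl⟩ := Submodule.Quotient.mk_surjective _ z
    obtain ⟨χ, hχ : χ ∘ₗ d2 P = g ∘ₗ φ⟩ := (Submodule.Quotient.mk_eq_zero _).1 h
    haveI := projective_L1 P
    obtain ⟨χ', hχ'⟩ := Module.projective_lifting_property g χ hg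
    obtain ⟨c, hc⟩ := exists_factor hf hfg (φ - χ' ∘ₗ d2 P) (by
      rw [LinearMap.comp_sub, ← LinearMap.comp_assoc, hχ', hχ, sub_self])
    refine ⟨Submodule.Quotient.mk c, (Submodule.Quotient.eq _).2 ⟨-χ', ?_⟩⟩
    show (-χ') ∘ₗ d2 P = f ∘ₗ c - φ
    rw [hc, LinearMap.neg_comp]; abel
  · rintro ⟨z, rfl⟩
    obtain ⟨c, rfl⟩ := Submodule.Quotient.mk_surjective _ z
    refine (congrArg Submodule.Quotient.mk (LinearMap.ext fun x => ?_)).trans (Submodule.Quotient.mk_zero _)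
    exact hfg.apply_apply_eq_zero _

theorem exists_delta0 (hf : Function.Injective f) (hg : Function.Surjective g) (hfg : Function.Exact f g) :
    ∃ δ₀ : T0 P M'' →ₗ[B] T1 P M',
      Function.Exact (T0map P g) δ₀ ∧ Function.Exact δ₀ (T1map P f) := by
  haveI := projective_L0 P
  obtain ⟨δ, hδ⟩ := exists_connecting hf hg hfg (d1 P)
  have hex : ∀ φ : T0 P M'', ∃ (ψ : L0 P →ₗ[B] M) (c : cocycles1 P M'),
      g ∘ₗ ψ = φ ∧ f ∘ₗ (c : L1 P →ₗ[B] M') = ψ ∘ₗ d1 P := fun φ => by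
    obtain ⟨ψ, hψ⟩ := Module.projective_lifting_property g (φ : L0 P →ₗ[B] M'') hg
    obtain ⟨c, hc⟩ := exists_factor hf hfg (ψ ∘ₗ d1 P) (by rw [← LinearMap.comp_assoc, hψ]; exact φ.2)
    refine ⟨ψ, ⟨c, comp_left_injective hf ?_⟩, hψ, hc⟩
    rw [LinearMap.comp_zero]
    show f ∘ₗ (c ∘ₗ d2 P) = 0
    rw [← LinearMap.comp_assoc, hc, LinearMap.comp_assoc, d1_comp_d2, LinearMap.comp_zero]
  let ι : T1 P M' →ₗ[B] (L1 P →ₗ[B] M') ⧸ LinearMap.range (d1Star P M') :=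
    Submodule.mapQ _ _ (cocycles1 P M').subtype le_rfl
  have hι : Function.Injective ι := by
    rw [injective_iff_map_eq_zero]
    intro z hz
    obtain ⟨c, rfl⟩ := Submodule.Quotient.mk_surjective _ z
    exact (Submodule.Quotient.mk_eq_zero _).2 ((Submodule.Quotient.mk_eq_zero (LinearMap.range (d1Star P M'))).1 hz :
      (c : L1 P →ₗ[B] M') ∈ LinearMap.range (d1Star P M'))
  have hrange : ∀ φ : T0 P M'', δ φ ∈ LinearMap.range ι := fun φ => by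
    obtain ⟨ψ, c, h1, h2⟩ := hex φ
    exact ⟨Submodule.Quotient.mk c, (hδ φ ψ _ h1 h2).symm⟩
  let δ₀ : T0 P M'' →ₗ[B] T1 P M' :=
    (LinearEquiv.ofInjective ι hι).symm.toLinearMap ∘ₗ (δ : T0 P M'' →ₗ[B] _).codRestrict _ hrange
  have hδ₀ : ∀ (φ : T0 P M'') ψ (c : cocycles1 P M'), g ∘ₗ ψ = φ → f ∘ₗ (c : L1 P →ₗ[B] M') = ψ ∘ₗ d1 P →
      δ₀ φ = Submodule.Quotient.mk c := fun φ ψ c h1 h2 =>
    (LinearEquiv.symm_apply_eq _).2 (Subtype.ext (hδ φ ψ _ h1 h2))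
  refine ⟨δ₀, fun φ => ⟨fun h => ?_, ?_⟩, fun z => ⟨fun h => ?_, ?_⟩⟩
  · obtain ⟨ψ, c, h1, h2⟩ := hex φ
    rw [hδ₀ φ ψ c h1 h2, Submodule.Quotient.mk_eq_zero] at h
    obtain ⟨c₀, hc₀ : c₀ ∘ₗ d1 P = (c : L1 P →ₗ[B] M')⟩ := h
    refine ⟨⟨ψ - f ∘ₗ c₀, ?_⟩, Subtype.ext ?_⟩
    · show (ψ - f ∘ₗ c₀) ∘ₗ d1 P = 0
      rw [LinearMap.sub_comp, LinearMap.comp_assoc, hc₀, h2, sub_self]
    · show g ∘ₗ (ψ - f ∘ₗ c₀) = (φ : L0 P →ₗ[B] M'')
      rw [LinearMap.comp_sub, ← LinearMap.comp_assoc, hfg.linearMap_comp_eq_zero, LinearMap.zero_comp, sub_zero, h1]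
  · rintro ⟨ψ, rfl⟩
    rw [hδ₀ _ (ψ : L0 P →ₗ[B] M) 0 rfl ?_, Submodule.Quotient.mk_zero]
    rw [Submodule.coe_zero, LinearMap.comp_zero]
    exact ψ.2.symm
  · obtain ⟨c, rfl⟩ := Submodule.Quotient.mk_surjective _ z
    obtain ⟨ψ, hψ : ψ ∘ₗ d1 P = f ∘ₗ (c : L1 P →ₗ[B] M')⟩ := (Submodule.Quotient.mk_eq_zero _).1 h
    refine ⟨⟨g ∘ₗ ψ, ?_⟩, hδ₀ _ ψ c rfl hψ.symm⟩
    show (g ∘ₗ ψ) ∘ₗ d1 P = 0
    rw [LinearMap.comp_assoc, hψ, ← LinearMap.comp_assoc, hfg.linearMap_comp_eq_zero, LinearMap.zero_comp]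
  · rintro ⟨φ, rfl⟩
    obtain ⟨ψ, c, h1, h2⟩ := hex φ
    rw [hδ₀ φ ψ c h1 h2]
    exact (Submodule.Quotient.mk_eq_zero _).2 ⟨ψ, h2.symm⟩

theorem exists_delta1 (hf : Function.Injective f) (hg : Function.Surjective g) (hfg : Function.Exact f g) :
    ∃ δ₁ : T1 P M'' →ₗ[B] T2 P M',
      Function.Exact (T1map P g) δ₁ ∧ Function.Exact δ₁ (T2map P f) := by
  haveI := projective_L1 P
  haveI := projective_L0 P
  obtain ⟨δ, hδ⟩ := exists_connecting hf hg hfg (d2 P)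
  have hex : ∀ φ : cocycles1 P M'', ∃ (ψ : L1 P →ₗ[B] M) (c : L2 P →ₗ[B] M'),
      g ∘ₗ ψ = φ ∧ f ∘ₗ c = ψ ∘ₗ d2 P := fun φ => by
    obtain ⟨ψ, hψ⟩ := Module.projective_lifting_property g (φ : L1 P →ₗ[B] M'') hg
    obtain ⟨c, hc⟩ := exists_factor hf hfg (ψ ∘ₗ d2 P) (by rw [← LinearMap.comp_assoc, hψ]; exact φ.2)
    exact ⟨ψ, c, hψ, hc⟩
  let δ₁ : T1 P M'' →ₗ[B] T2 P M' := Submodule.liftQ _ (δ : cocycles1 P M'' →ₗ[B] _) (by
    rintro φ ⟨χ, hχ⟩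
    obtain ⟨χ', hχ'⟩ := Module.projective_lifting_property g χ hg
    refine ((hδ φ (χ' ∘ₗ d1 P) 0 ?_ ?_).trans (Submodule.Quotient.mk_zero _) : δ φ = 0)
    · rw [← LinearMap.comp_assoc, hχ']
      exact hχ
    · rw [LinearMap.comp_zero, LinearMap.comp_assoc, d1_comp_d2, LinearMap.comp_zero])
  refine ⟨δ₁, fun z => ⟨fun h => ?_, ?_⟩, fun z => ⟨fun h => ?_, ?_⟩⟩
  · obtain ⟨φ, rfl⟩ := Submodule.Quotient.mk_surjective _ z
    obtain ⟨ψ, c, h1, h2⟩ := hex φ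
    have h' : (Submodule.Quotient.mk c : T2 P M') = 0 := (hδ φ ψ c h1 h2).symm.trans h
    obtain ⟨c₀, hc₀ : c₀ ∘ₗ d2 P = c⟩ := (Submodule.Quotient.mk_eq_zero _).1 h'
    refine ⟨Submodule.Quotient.mk ⟨ψ - f ∘ₗ c₀, ?_⟩, congrArg Submodule.Quotient.mk (Subtype.ext ?_)⟩
    · show (ψ - f ∘ₗ c₀) ∘ₗ d2 P = 0
      rw [LinearMap.sub_comp, LinearMap.comp_assoc, hc₀, h2, sub_self]
    · show g ∘ₗ (ψ - f ∘ₗ c₀) = (φ : L1 P →ₗ[B] M'')
      rw [LinearMap.comp_sub, ← LinearMap.comp_assoc, hfg.linearMap_comp_eq_zero, LinearMap.zero_comp, sub_zero, h1]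
  · rintro ⟨z, rfl⟩
    obtain ⟨ψ, rfl⟩ := Submodule.Quotient.mk_surjective _ z
    refine (hδ _ (ψ : L1 P →ₗ[B] M) 0 rfl ?_).trans (Submodule.Quotient.mk_zero _)
    rw [LinearMap.comp_zero]
    exact ψ.2.symm
  · obtain ⟨c, rfl⟩ := Submodule.Quotient.mk_surjective _ z
    obtain ⟨ψ, hψ : ψ ∘ₗ d2 P = f ∘ₗ c⟩ := (Submodule.Quotient.mk_eq_zero _).1 h
    refine ⟨Submodule.Quotient.mk ⟨g ∘ₗ ψ, ?_⟩, hδ _ ψ c rfl hψ.symm⟩
    show (g ∘ₗ ψ) ∘ₗ d2 P = 0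
    rw [LinearMap.comp_assoc, hψ, ← LinearMap.comp_assoc, hfg.linearMap_comp_eq_zero, LinearMap.zero_comp]
  · rintro ⟨z, rfl⟩
    obtain ⟨φ, rfl⟩ := Submodule.Quotient.mk_surjective _ z
    obtain ⟨ψ, c, h1, h2⟩ := hex φ
    rw [show δ₁ (Submodule.Quotient.mk φ) = δ φ from rfl, hδ φ ψ c h1 h2]
    exact (Submodule.Quotient.mk_eq_zero _).2 ⟨ψ, h2.symm⟩

end Groth.Agent.CotTLib
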