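import Groth.Agent.CotTLib.Regular

/-!
# For locally complete intersections `d₂` is injective
-/

universe u v w t m

open TensorProduct

noncomputable section

namespace Groth.Agent.CotTLib

open CotT RingTheory.Sequence

section Triv

variable {R : Type u} [CommRing R] {σ : Type t}

/-- The span of the elementary trivial relations of a family. -/
def trivOf (r : σ → R) : Submodule R (σ →₀ R) :=
  Submodule.span R (Set.range fun p : σ × σ => r p.1 • Finsupp.single p.2 1 - r p.2 • Finsupp.single p.1 1)

theorem smul_sub_smul_mem_trivOf (r : σ → R) (a b : σ →₀ R) :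
    Finsupp.linearCombination R r a • b - Finsupp.linearCombination R r b • a ∈ trivOf r := by
  induction a using Finsupp.induction_linear with
  | zero => simp
  | add x y hx hy =>
    rw [map_add, add_smul, smul_add, add_sub_add_comm]
    exact add_mem hx hy
  | single s c =>
    induction b using Finsupp.induction_linear with
    | zero => simp
    | add x y hx hy =>
      rw [map_add, add_smul, smul_add, add_sub_add_comm]
      exact add_mem hx hy
    | single s' c' =>
      have key : Finsupp.linearCombination R r (Finsupp.single s c) • Finsupp.single s' c' -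
          Finsupp.linearCombination R r (Finsupp.single s' c') • Finsupp.single s c =
          (c * c') • (r s • Finsupp.single s' (1 : R) - r s' • Finsupp.single s 1) := by
        simp only [Finsupp.linearCombination_single, smul_eq_mul, Finsupp.smul_single, mul_one, smul_sub]
        congr 2 <;> ring
      rw [key]
      exact Submodule.smul_mem _ _ (Submodule.subset_span ⟨(s, s'), rfl⟩)

/-- If the range of the family is generated by a weakly regular sequence, then a relation with coefficients
in the range is trivial. -/
theorem mem_trivOf_of_regular (r : σ → R) {n : ℕ} (y : Fin n → R) (hy : IsWeaklyRegular R (List.ofFn y))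
    (hspan : Ideal.span (Set.range r) = Ideal.span (Set.range y)) (x : σ →₀ R)
    (hx : Finsupp.linearCombination R r x = 0) (hxI : ∀ s, x s ∈ Ideal.span (Set.range r)) : x ∈ trivOf r := by
  classical
  have ha : ∀ s, ∃ c : Fin n → R, ∑ j, c j * y j = r s := fun s =>
    Ideal.mem_span_range_iff_exists_fun.1 (by rw [← hspan]; exact Ideal.subset_span ⟨s, rfl⟩)
  choose a ha using ha
  have hb : ∀ j, ∃ u : σ →₀ R, Finsupp.linearCombination R r u = y j := fun j =>
    (Finsupp.mem_span_range_iff_exists_finsupp.1 (show y j ∈ Submodule.span R (Set.range r) from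
      (show y j ∈ Ideal.span (Set.range r) by rw [hspan]; exact Ideal.subset_span ⟨j, rfl⟩))).imp
      fun u hu => by rwa [Finsupp.linearCombination_apply]
  choose b hb using hb
  let g : σ → σ →₀ R := fun s => Finsupp.single s 1 - ∑ j, a s j • b j
  have hg : ∀ s, Finsupp.linearCombination R r (g s) = 0 := fun s => by
    simp only [g, map_sub, map_sum, map_smul, hb, Finsupp.linearCombination_single, smul_eq_mul, one_mul, ha,
      sub_self]
  let z : Fin n → R := fun j => ∑ s ∈ x.support, x s * a s j
  have hz : ∑ j, y j • z j = 0 := by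
    rw [← hx, Finsupp.linearCombination_apply, Finsupp.sum]
    simp only [z, smul_eq_mul, Finset.mul_sum]
    rw [Finset.sum_comm]
    exact Finset.sum_congr rfl fun s _ => by
      rw [← ha s, Finset.mul_sum]
      exact Finset.sum_congr rfl fun j _ => by ring
  obtain ⟨d, hd⟩ := exists_alternating y R hy z hz
  have hx' : x = (∑ i, ∑ j, d i j • (y j • b i - y i • b j)) + ∑ s ∈ x.support, x s • g s := by
    have h1 : ∑ s ∈ x.support, x s • g s = x - ∑ i, z i • b i := by
      simp only [g, z, smul_sub, Finset.sum_sub_distrib, Finset.smul_sum, smul_smul, Finset.sum_smul,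
        Finsupp.smul_single_one]
      rw [Finset.sum_comm (s := x.support)]
      exact congrArg (· - _) (Finsupp.sum_single x)
    have h2 : ∑ i, z i • b i = ∑ i, ∑ j, d i j • (y j • b i - y i • b j) := by
      simp only [smul_sub, Finset.sum_sub_distrib]
      rw [Finset.sum_comm (f := fun i j => d i j • y i • b j), ← Finset.sum_sub_distrib]
      refine Finset.sum_congr rfl fun i _ => ?_
      rw [hd i, Finset.sum_smul, ← Finset.sum_sub_distrib]
      refine Finset.sum_congr rfl fun j _ => ?_
      simp only [smul_eq_mul, mul_sub, sub_smul, smul_smul, mul_comm]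
    rw [h1, ← h2]; abel
  rw [hx']
  refine add_mem (Submodule.sum_mem _ fun i _ => Submodule.sum_mem _ fun j _ => Submodule.smul_mem _ _ ?_)
    (Submodule.sum_mem _ fun s _ => ?_)
  · rw [← hb j, ← hb i]
    exact smul_sub_smul_mem_trivOf r _ _
  · obtain ⟨u, hu⟩ : ∃ u : σ →₀ R, Finsupp.linearCombination R r u = x s :=
      (Finsupp.mem_span_range_iff_exists_finsupp.1 (hxI s : x s ∈ Submodule.span R (Set.range r))).imp
        fun u hu => by rwa [Finsupp.linearCombination_apply]
    have := smul_sub_smul_mem_trivOf r u (g s)
    rwa [hg, zero_smul, sub_zero, hu] at this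

/-- Clearing denominators. -/
theorem exists_smul_mem_trivOf {S : Type*} [CommRing S] [Algebra R S] (M : Submonoid R) [IsLocalization M S]
    (r : σ → R) (x : σ →₀ R)
    (hx : Finsupp.mapRange (algebraMap R S) (map_zero _) x ∈ trivOf (fun s => algebraMap R S (r s))) :
    ∃ c ∈ M, c • x ∈ trivOf r := by
  classical
  let φ : (σ →₀ R) →ₗ[R] (σ →₀ S) := Finsupp.mapRange.linearMap (Algebra.linearMap R S)
  have key : ∀ z ∈ trivOf (fun s => algebraMap R S (r s)), ∃ c ∈ M, ∃ w ∈ trivOf r, φ w = algebraMap R S c • z := by
    intro z hz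
    induction hz using Submodule.span_induction with
    | mem z hz =>
      obtain ⟨⟨s, s'⟩, rfl⟩ := hz
      refine ⟨1, M.one_mem, r s • Finsupp.single s' 1 - r s' • Finsupp.single s 1,
        Submodule.subset_span ⟨(s, s'), rfl⟩, ?_⟩
      simp [φ, map_sub, Finsupp.smul_single, Algebra.smul_def]
    | zero => exact ⟨1, M.one_mem, 0, zero_mem _, by simp⟩
    | add a b _ _ ha hb =>
      obtain ⟨c, hc, w, hw, h⟩ := ha
      obtain ⟨c', hc', w', hw', h'⟩ := hb
      refine ⟨c * c', M.mul_mem hc hc', c' • w + c • w', add_mem (Submodule.smul_mem _ _ hw) (Submodule.smul_mem _ _ hw'), ?_⟩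
      rw [map_add, map_smul, map_smul, h, h', map_mul, algebra_compatible_smul S c', algebra_compatible_smul S c,
        smul_add, smul_smul, smul_smul, mul_comm (algebraMap R S c')]
    | smul e a _ ha =>
      obtain ⟨c, hc, w, hw, h⟩ := ha
      obtain ⟨⟨p, q⟩, hpq⟩ := IsLocalization.surj M e
      refine ⟨c * q, M.mul_mem hc q.2, p • w, Submodule.smul_mem _ _ hw, ?_⟩
      rw [map_smul, h, algebra_compatible_smul S p, ← hpq, smul_smul, smul_smul, map_mul]
      congr 1; ring
  obtain ⟨c, hc, w, hw, h⟩ := key _ hx
  have hzero : ∀ s, ∃ t : M, (t : R) * (w s) = t * (c * x s) := fun s => by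
    refine (IsLocalization.eq_iff_exists M S).1 ?_
    have := DFunLike.congr_fun h s
    simpa [φ, map_mul, Algebra.smul_def] using this
  choose t ht using hzero
  let T := ∏ s ∈ (w - c • x).support, (t s : R)
  refine ⟨T * c, M.mul_mem (Submonoid.prod_mem _ fun s _ => (t s).2) hc, ?_⟩
  have hTw : T • w = (T * c) • x := Finsupp.ext fun s => by
    rw [Finsupp.smul_apply, Finsupp.smul_apply, smul_eq_mul, smul_eq_mul]
    by_cases hs : s ∈ (w - c • x).support
    · obtain ⟨T', hT'⟩ : (t s : R) ∣ T := Finset.dvd_prod_of_mem _ hs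
      rw [hT']
      linear_combination T' * ht s
    · have h0 : w s - c * x s = 0 := by simpa using hs
      linear_combination T * h0
  rw [← hTw]
  exact Submodule.smul_mem _ _ hw

end Triv

variable {A : Type u} {B : Type v} {ι : Type w} {σ : Type t}
variable [CommRing A] [CommRing B] [Algebra A B]
variable {P : Algebra.Presentation A B ι σ}

theorem trivOf_le_trivRel : trivOf (rel P) ≤ trivRel P := by
  refine Submodule.span_le.2 ?_
  rintro _ ⟨⟨s, s'⟩, rfl⟩
  refine Submodule.subset_span ⟨Finsupp.single s 1, Finsupp.single s' 1, ?_⟩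
  rw [jmap_single, jmap_single, one_mul, one_mul]

theorem apply_mem_ker_of_toL1_eq_zero {x : relMod P} (hx : toL1 P x = 0) (s : σ) :
    algebraMap P.toExtension.Ring B (x s) = 0 := by
  have key : ∀ y : relMod P, (L1basis P).repr (toL1 P y) s = algebraMap P.toExtension.Ring B (y s) := fun y => by
    induction y using Finsupp.induction_linear with
    | zero => simp
    | add a b ha hb => rw [map_add, map_add, Finsupp.add_apply, Finsupp.add_apply, map_add, ha, hb]
    | single s' c =>
      rw [← Finsupp.smul_single_one, toL1_smul, toL1_apply, ← L1basis_apply, map_smul, Module.Basis.repr_self]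
      classical
      simp only [Finsupp.smul_apply, Finsupp.single_apply, smul_eq_mul]
      split_ifs <;> simp
  rw [← key, hx, map_zero, Finsupp.zero_apply]

/-- If the ideal of the presentation is locally generated by weakly regular sequences, then `d₂` is injective. -/
theorem injective_d2_of_lci
    (H : ∀ p : Ideal P.toExtension.Ring, [p.IsPrime] → P.toExtension.ker ≤ p →
      ∃ (n : ℕ) (y : Fin n → Localization.AtPrime p), IsWeaklyRegular (Localization.AtPrime p) (List.ofFn y) ∧
        P.toExtension.ker.map (algebraMap P.toExtension.Ring (Localization.AtPrime p)) = Ideal.span (Set.range y)) :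
    Function.Injective (d2 P) := by
  classical
  rw [injective_iff_map_eq_zero]
  intro z hz
  obtain ⟨q, rfl⟩ := toL2_surjective z
  rw [d2_toL2] at hz
  refine toL2_eq_zero_of_mem_trivRel ?_
  let a : Ideal P.toExtension.Ring := (trivRel P).colon {(q : relMod P)}
  have ha : ∀ c, c ∈ a ↔ c • (q : relMod P) ∈ trivRel P := fun c => Submodule.mem_colon_singleton
  have hI : P.toExtension.ker ≤ a := fun c hc => by
    obtain ⟨u, rfl⟩ : c ∈ LinearMap.range (jmap P) := by rw [range_jmap]; exact hc
    rw [ha]
    refine Submodule.subset_span ⟨u, q, ?_⟩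
    rw [show jmap P (q : relMod P) = 0 from q.2, zero_smul, sub_zero]
  suffices h : a = ⊤ by simpa using (ha 1).1 (h ▸ Submodule.mem_top)
  by_contra h
  obtain ⟨p, hp, hap⟩ := Ideal.exists_le_maximal a h
  obtain ⟨n, y, hy, hyI⟩ := H p (hI.trans hap)
  let Rp := Localization.AtPrime p
  let r' : σ → Rp := fun s => algebraMap P.toExtension.Ring Rp (rel P s)
  have hspan : Ideal.span (Set.range r') = Ideal.span (Set.range y) := by
    rw [← hyI]
    have : P.toExtension.ker = Ideal.span (Set.range (rel P)) := P.span_range_relation_eq_ker.symm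
    rw [this, Ideal.map_span, ← Set.range_comp]
    rfl
  let x' : σ →₀ Rp := Finsupp.mapRange (algebraMap P.toExtension.Ring Rp) (map_zero _) (q : relMod P)
  have hx0 : Finsupp.linearCombination Rp r' x' = 0 := by
    have h0 : jmap P (q : relMod P) = 0 := q.2
    rw [← map_zero (algebraMap P.toExtension.Ring Rp), ← h0, jmap, Finsupp.linearCombination_apply,
      Finsupp.linearCombination_apply, map_finsuppSum]
    refine (Finsupp.sum_mapRange_index (h := fun s a => a • r' s) (fun s => zero_smul _ _)).trans ?_
    exact Finsupp.sum_congr fun s _ => (map_mul _ _ _).symm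
  have hxI : ∀ s, x' s ∈ Ideal.span (Set.range r') := fun s => by
    rw [hspan, ← hyI]
    exact Ideal.mem_map_of_mem _ (apply_mem_ker_of_toL1_eq_zero hz s)
  obtain ⟨c, hc, hcx⟩ := exists_smul_mem_trivOf p.primeCompl (rel P) (q : relMod P)
    (mem_trivOf_of_regular r' y hy hspan x' hx0 hxI)
  exact hc (hap ((ha c).2 (trivOf_le_trivRel hcx)))

/-- `d₂` injective and `I/I²` projective imply `T² = 0`. -/
theorem subsingleton_T2_of_injective (h : Function.Injective (d2 P)) [Module.Projective B P.toExtension.Cotangent]
    (M : Type m) [AddCommGroup M] [Module B M] : Subsingleton (T2 P M) := by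
  rw [subsingleton_T2_iff]
  intro α
  obtain ⟨s, hs⟩ := Module.projective_lifting_property (toCot P) LinearMap.id toCot_surjective
  have hrange : ∀ z, (LinearMap.id - s ∘ₗ toCot P : L1 P →ₗ[B] L1 P) z ∈ LinearMap.range (d2 P) := fun z => by
    refine (exact_d2_toCot _).1 ?_
    rw [LinearMap.sub_apply, map_sub, LinearMap.id_apply, LinearMap.comp_apply,
      show toCot P (s (toCot P z)) = toCot P z from LinearMap.congr_fun hs (toCot P z), sub_self]
  refine ⟨α ∘ₗ (LinearEquiv.ofInjective (d2 P) h).symm.toLinearMap ∘ₗ ((LinearMap.id - s ∘ₗ toCot P : L1 P →ₗ[B] L1 P)).codRestrict _ hrange,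
    LinearMap.ext fun w => congrArg α ?_⟩
  refine (LinearEquiv.symm_apply_eq _).2 (Subtype.ext ?_)
  show (LinearMap.id - s ∘ₗ toCot P : L1 P →ₗ[B] L1 P) (d2 P w) = d2 P w
  rw [LinearMap.sub_apply, LinearMap.comp_apply,
    show toCot P (d2 P w) = 0 from LinearMap.congr_fun (toCot_comp_d2 P) w, map_zero, sub_zero, LinearMap.id_apply]

end Groth.Agent.CotTLib
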