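import Groth.Agent.CotTLib.RegularLci
import Mathlib

/-!
# The kernel of `d₂` dies at primes where the ideal is generated by a regular sequence
-/

universe u v w t

open TensorProduct

noncomputable section

namespace Groth.Agent.CotTLib

open CotT RingTheory.Sequence

/-- A regular quotient at one prime. -/
theorem regular_lci_at {R B : Type u} [CommRing R] [CommRing B] (g : R →+* B) (hg : Function.Surjective g)
    (p : Ideal R) [p.IsPrime] (hp : RingHom.ker g ≤ p) [IsRegularLocalRing (Localization.AtPrime p)]
    (hB : ∀ (q : Ideal B) [q.IsPrime], q = p.map g → IsRegularLocalRing (Localization.AtPrime q)) :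
    ∃ (n : ℕ) (y : Fin n → Localization.AtPrime p), IsWeaklyRegular (Localization.AtPrime p) (List.ofFn y) ∧
      (RingHom.ker g).map (algebraMap R (Localization.AtPrime p)) = Ideal.span (Set.range y) := by
  let q : Ideal B := p.map g
  have : q.IsPrime := Ideal.map_isPrime_of_surjective hg hp
  have hq : p = q.comap g := by
    rw [Ideal.comap_map_of_surjective _ hg, left_eq_sup]
    exact hp
  let φ := Localization.localRingHom p q g hq
  have hφ : Function.Surjective φ := by
    intro x
    obtain ⟨b, ⟨s, hs⟩, rfl⟩ := IsLocalization.exists_mk'_eq q.primeCompl x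
    obtain ⟨a, rfl⟩ := hg b
    obtain ⟨t, rfl⟩ := hg s
    have ht : t ∈ p.primeCompl := fun h => hs (Ideal.mem_map_of_mem g h)
    exact ⟨IsLocalization.mk' _ a ⟨t, ht⟩, Localization.localRingHom_mk' _ _ g hq a ⟨t, ht⟩⟩
  have hker : RingHom.ker φ = (RingHom.ker g).map (algebraMap R (Localization.AtPrime p)) := by
    refine le_antisymm (fun x hx => ?_) (Ideal.map_le_iff_le_comap.2 fun a ha => ?_)
    · obtain ⟨a, s, rfl⟩ := IsLocalization.exists_mk'_eq p.primeCompl x
      rw [RingHom.mem_ker, Localization.localRingHom_mk', IsLocalization.mk'_eq_zero_iff] at hx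
      obtain ⟨⟨b, hb⟩, hab⟩ := hx
      obtain ⟨t, rfl⟩ := hg b
      have ht : t ∈ p.primeCompl := fun h => hb (Ideal.mem_map_of_mem g h)
      rw [IsLocalization.mk'_mem_map_algebraMap_iff]
      exact ⟨t, ht, by rw [RingHom.mem_ker, map_mul]; exact hab⟩
    · rw [Ideal.mem_comap, RingHom.mem_ker, Localization.localRingHom_to_map, RingHom.mem_ker.1 ha, map_zero]
  have hreg : IsRegularLocalRing (Localization.AtPrime p ⧸ RingHom.ker φ) :=
    have := hB q rfl
    IsRegularLocalRing.of_ringEquiv (RingHom.quotientKerEquivOfSurjective hφ).symm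
  obtain ⟨rs, hlen, hspan, c, -, hI⟩ := CAlgH3.exists_sop_of_regular_quotient _ _ rfl (RingHom.ker φ)
  have hw : IsWeaklyRegular (Localization.AtPrime p) rs :=
    (CAlgH3.isRegular_of_ofList_eq_maximalIdeal rs hspan hlen).toIsWeaklyRegular
  rw [← List.take_append_drop c rs, isWeaklyRegular_append_iff] at hw
  refine ⟨(rs.take c).length, (rs.take c).get, by rw [List.ofFn_get]; exact hw.1, ?_⟩
  rw [← hker, hI, Ideal.ofList]
  congr 1
  ext x
  simp [List.mem_iff_get]

variable {A : Type u} {B : Type v} {ι : Type w} {σ : Type t}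
variable [CommRing A] [CommRing B] [Algebra A B]
variable {P : Algebra.Presentation A B ι σ}

/-- An element of the kernel of `d₂` dies at a prime at which the ideal is generated by a regular sequence. -/
theorem exists_smul_toL2_eq_zero (p : Ideal P.toExtension.Ring) [p.IsPrime]
    (H : ∃ (n : ℕ) (y : Fin n → Localization.AtPrime p), IsWeaklyRegular (Localization.AtPrime p) (List.ofFn y) ∧
      P.toExtension.ker.map (algebraMap P.toExtension.Ring (Localization.AtPrime p)) = Ideal.span (Set.range y))
    (q : relKer P) (hz : d2 P (toL2 P q) = 0) :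
    ∃ c ∉ p, algebraMap P.toExtension.Ring B c • toL2 P q = 0 := by
  classical
  rw [d2_toL2] at hz
  obtain ⟨n, y, hy, hyI⟩ := H
  let Rp := Localization.AtPrime p
  let r' : σ → Rp := fun s => algebraMap P.toExtension.Ring Rp (rel P s)
  have hspan : Ideal.span (Set.range r') = Ideal.span (Set.range y) := by
    rw [← hyI]
    have : P.toExtension.ker = Ideal.span (Set.range (rel P)) := P.span_range_relation_eq_ker.symm
    rw [this, Ideal.map_span, ← Set.range_comp]
    rfl
  let x' : σ →₀ Rp := Finsupp.mapRange (algebraMap P.toExtension.Ring Rp) (map_zero _) (q : relMod P)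
  have hx0 : Finsupp.linearCombination Rp r' x' = 0 := by
    have h0 : jmap P (q : relMod P) = 0 := q.2
    rw [← map_zero (algebraMap P.toExtension.Ring Rp), ← h0, jmap, Finsupp.linearCombination_apply,
      Finsupp.linearCombination_apply, map_finsuppSum]
    refine (Finsupp.sum_mapRange_index (h := fun s a => a • r' s) (fun s => zero_smul _ _)).trans ?_
    exact Finsupp.sum_congr fun s _ => (map_mul _ _ _).symm
  have hxI : ∀ s, x' s ∈ Ideal.span (Set.range r') := fun s => by
    rw [hspan, ← hyI]
    exact Ideal.mem_map_of_mem _ (apply_mem_ker_of_toL1_eq_zero hz s)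
  obtain ⟨c, hc, hcx⟩ := exists_smul_mem_trivOf p.primeCompl (rel P) (q : relMod P)
    (mem_trivOf_of_regular r' y hy hspan x' hx0 hxI)
  refine ⟨c, hc, ?_⟩
  rw [← toL2_smul]
  exact toL2_eq_zero_of_mem_trivRel (trivOf_le_trivRel hcx)

end Groth.Agent.CotTLib
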