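import Groth.Agent.CotTLib.Smooth
import Mathlib

/-!
# `T²` of a localization vanishes
-/

universe u m

open MvPolynomial

noncomputable section

namespace Groth.Agent.CotTLib

open CotT

variable (B L : Type u) [CommRing B] [CommRing L] [Algebra B L] (S : Submonoid B) [IsLocalization S L]

/-- The relation `s z_s - 1`. -/
def locRel (s : S) : MvPolynomial S B := C (s : B) * X s - 1

/-- The value of `z_s`. -/
def locVal (s : S) : L := IsLocalization.mk' L 1 s

theorem locVal_surjective : Function.Surjective (aeval (R := B) (locVal B L S)) := fun x => by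
  obtain ⟨a, s, rfl⟩ := IsLocalization.exists_mk'_eq S x
  refine ⟨C a * X s, ?_⟩
  rw [map_mul, aeval_C, aeval_X, locVal, IsLocalization.mul_mk'_eq_mk'_of_mul, mul_one]

theorem aeval_locRel (s : S) : aeval (locVal B L S) (locRel B S s) = 0 := by
  rw [locRel, map_sub, map_mul, aeval_C, aeval_X, map_one, locVal, IsLocalization.mk'_spec', map_one, sub_self]

theorem span_locRel : Ideal.span (Set.range (locRel B S)) = RingHom.ker (aeval (R := B) (locVal B L S)) := by
  refine le_antisymm (Ideal.span_le.2 ?_) ?_
  · rintro _ ⟨s, rfl⟩
    exact aeval_locRel B L S s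
  let J := Ideal.span (Set.range (locRel B S))
  let q : MvPolynomial S B →+* MvPolynomial S B ⧸ J := Ideal.Quotient.mk J
  have h1 : ∀ s : S, q (C (s : B)) * q (X s) = 1 := fun s => by
    rw [← map_mul, ← map_one q, Ideal.Quotient.eq]
    exact Ideal.subset_span ⟨s, rfl⟩
  let ψ : L →+* MvPolynomial S B ⧸ J := IsLocalization.lift (M := S) (g := q.comp C)
    fun s => .of_mul_eq_one _ (h1 s)
  have hq : ψ.comp (aeval (R := B) (locVal B L S)).toRingHom = q := by
    refine MvPolynomial.ringHom_ext (fun b => ?_) (fun s => ?_)
    · show ψ (aeval (locVal B L S) (C b)) = q (C b)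
      rw [aeval_C]
      exact IsLocalization.lift_eq _ b
    · show ψ (aeval (locVal B L S) (X s)) = q (X s)
      rw [aeval_X, locVal, IsLocalization.lift_mk'_spec]
      show q (C 1) = q (C (s : B)) * q (X s)
      rw [h1, C_1, map_one]
  intro f hf
  refine Ideal.Quotient.eq_zero_iff_mem.1 ?_
  show q f = 0
  rw [← hq]
  exact (congrArg ψ hf).trans (map_zero ψ)

/-- The presentation of a localization with one inverse variable for each denominator. -/
def locPres : Algebra.Presentation B L S S where
  __ := Algebra.Generators.ofSurjective (locVal B L S) (locVal_surjective B L S)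
  relation := locRel B S
  span_range_relation_eq_ker := span_locRel B L S

variable {B}

theorem mem_of_mul_C_mul_X_sub_one_mem {R : Type*} [CommRing R] (J : Ideal R) (c : R) (p : Polynomial R)
    (h : p * (Polynomial.C c * Polynomial.X - 1) ∈ J.map Polynomial.C) : p ∈ J.map Polynomial.C := by
  rw [Ideal.mem_map_C_iff] at h ⊢
  intro n
  induction n with
  | zero => simpa [mul_sub, ← mul_assoc] using h 0
  | succ n ih =>
    have := h (n + 1)
    rw [mul_sub, mul_one, ← mul_assoc, Polynomial.coeff_sub, Polynomial.coeff_mul_X, Polynomial.coeff_mul_C] at this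
    simpa using sub_mem (J.mul_mem_right c ih) this

theorem mem_span_of_mul_locRel_mem {a : S} {F : Set S} (ha : a ∉ F) (v : MvPolynomial S B)
    (h : v * locRel B S a ∈ Ideal.span (locRel B S '' F)) : v ∈ Ideal.span (locRel B S '' F) := by
  classical
  let φ : MvPolynomial S B ≃ₐ[B] Polynomial (MvPolynomial {b // b ≠ a} B) :=
    (renameEquiv B (Equiv.optionSubtypeNe a).symm).trans (optionEquivLeft B _)
  let J' : Ideal (MvPolynomial {b // b ≠ a} B) :=
    Ideal.span (Set.range fun b : F => C ((b : S) : B) * X ⟨(b : S), fun e => ha (e ▸ b.2)⟩ - 1)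
  have hX : ∀ b : S, φ (X b) = optionEquivLeft B _ (X ((Equiv.optionSubtypeNe a).symm b)) := fun b => by
    simp only [φ, AlgEquiv.trans_apply, renameEquiv_apply, rename_X]
  have hC : ∀ b : B, φ (C b) = Polynomial.C (C b) := fun b => by
    simp only [φ, AlgEquiv.trans_apply, renameEquiv_apply, rename_C, optionEquivLeft_C]
  have hJ : (Ideal.span (locRel B S '' F)).map φ = J'.map Polynomial.C := by
    rw [Ideal.map_span, Ideal.map_span, ← Set.range_comp, ← Set.image_comp, Set.image_eq_range]
    refine congrArg Ideal.span (congrArg Set.range (funext fun b => ?_))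
    show φ (locRel B S b) = Polynomial.C _
    rw [locRel, map_sub, map_mul, map_one, hC, hX, Equiv.optionSubtypeNe_symm_of_ne, optionEquivLeft_X_some,
      map_sub, map_mul, map_one]
  have hinj : ∀ w, φ w ∈ J'.map Polynomial.C ↔ w ∈ Ideal.span (locRel B S '' F) := fun w => by
    rw [← hJ]
    exact Ideal.apply_mem_of_equiv_iff
  rw [← hinj] at h ⊢
  rw [map_mul, locRel, map_sub, map_mul, map_one, hC, hX, Equiv.optionSubtypeNe_symm_self,
    optionEquivLeft_X_none] at h
  exact mem_of_mul_C_mul_X_sub_one_mem J' _ _ h

theorem mem_trivOf_locRel (x : S →₀ MvPolynomial S B)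
    (hx : Finsupp.linearCombination (MvPolynomial S B) (locRel B S) x = 0) : x ∈ trivOf (locRel B S) := by
  classical
  let R := MvPolynomial S B
  let r := locRel B S
  suffices H : ∀ (F : Finset S) (x : S →₀ R), x.support ⊆ F → Finsupp.linearCombination R r x = 0 → x ∈ trivOf r from
    H _ x subset_rfl hx
  intro F
  induction F using Finset.induction_on with
  | empty =>
    intro x hs _
    rw [Finset.subset_empty, Finsupp.support_eq_empty] at hs
    rw [hs]; exact zero_mem _
  | insert a F ha ih =>
    intro x hs hx
    have hsup : (x - Finsupp.single a (x a)).support ⊆ F := fun s hs' => by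
      rcases eq_or_ne s a with rfl | hne
      · simp at hs'
      · have : x s ≠ 0 := by simpa [Finsupp.single_apply, hne.symm] using hs'
        exact (Finset.mem_insert.1 (hs (Finsupp.mem_support_iff.2 this))).resolve_left hne
    have h1 : x a * r a ∈ Ideal.span (r '' (F : Set S)) := by
      have : Finsupp.linearCombination R r (x - Finsupp.single a (x a)) = -(x a * r a) := by
        rw [map_sub, hx, Finsupp.linearCombination_single, zero_sub, smul_eq_mul]
      rw [← neg_mem_iff, ← this]
      exact Finsupp.mem_span_image_iff_linearCombination R |>.2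
        ⟨_, (Finsupp.mem_supported R _).2 (by exact_mod_cast hsup), rfl⟩
    obtain ⟨w, hw, hwa⟩ := (Finsupp.mem_span_image_iff_linearCombination R).1
      (mem_span_of_mul_locRel_mem S (by exact_mod_cast ha) (x a) h1 : x a ∈ Submodule.span R (r '' (F : Set S)))
    have hw0 : w a = 0 := by
      by_contra h
      exact ha ((Finsupp.mem_supported R w).1 hw (Finsupp.mem_support_iff.2 h))
    let e := Finsupp.linearCombination R r w • Finsupp.single a (1 : R) -
      Finsupp.linearCombination R r (Finsupp.single a (1 : R)) • w
    have he : e ∈ trivOf r := smul_sub_smul_mem_trivOf r w _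
    have he0 : Finsupp.linearCombination R r e = 0 := by
      simp only [e, map_sub, map_smul, smul_eq_mul, mul_comm, sub_self]
    refine (sub_add_cancel x e) ▸ add_mem (ih (x - e) (fun s hs' => ?_) (by rw [map_sub, hx, he0, sub_zero])) he
    rcases eq_or_ne s a with rfl | hne
    · simp [e, hw0] at hs'
      exact absurd (sub_eq_zero.2 hwa.symm) hs'
    · by_contra hsF
      have h2 : x s = 0 := by
        by_contra h
        exact hsF ((Finset.mem_insert.1 (hs (Finsupp.mem_support_iff.2 h))).resolve_left hne)
      have h3 : w s = 0 := by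
        by_contra h
        exact hsF ((Finsupp.mem_supported R w).1 hw (Finsupp.mem_support_iff.2 h))
      simp [e, h2, h3, Finsupp.single_apply, hne.symm] at hs'

/-- `T²` of a localization vanishes. -/
theorem subsingleton_T2_locPres (M : Type m) [AddCommGroup M] [Module L M] :
    Subsingleton (T2 (locPres B L S) M) := by
  have key : ∀ x : relMod (locPres B L S),
      Finsupp.linearCombination _ (rel (locPres B L S)) x = 0 → x ∈ trivOf (rel (locPres B L S)) :=
    @mem_trivOf_locRel B _ S
  have hz : ∀ z : L2 (locPres B L S), z = 0 := fun z => by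
    obtain ⟨q, rfl⟩ := toL2_surjective z
    exact toL2_eq_zero_of_mem_trivRel (trivOf_le_trivRel (key _ q.2))
  exact subsingleton_T2_iff.2 fun α => ⟨0, LinearMap.ext fun z => by rw [hz z, map_zero, map_zero]⟩

end Groth.Agent.CotTLib
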