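import Groth.Agent.CotTLib.Change

/-!
# The nine-term sequence of `A → B → C`
-/

universe u m

open TensorProduct

noncomputable section

namespace Groth.Agent.CotTLib

open CotT

variable {A B C : Type u} [CommRing A] [CommRing B] [CommRing C] [Algebra A B] [Algebra B C] [Algebra A C]
  [IsScalarTower A B C] {ι σ ι' σ' : Type u}
variable (P : Algebra.Presentation A B ι σ) (Q : Algebra.Presentation B C ι' σ')
variable (M : Type m) [AddCommGroup M] [Module C M] [Module B M] [IsScalarTower B C M]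

theorem toL1_ringHom_smul {X Y : Type u} [CommRing X] [CommRing Y] [Algebra X Y] {κ τ : Type u}
    {R : Algebra.Presentation X Y κ τ} (r : R.toExtension.Ring) (hr : r = 1) (f : relMod R) :
    toL1 R (r • f) = toL1 R f := by rw [hr, one_smul]

theorem L1map_toC_single (s : σ) :
    (toC P Q).L1map (toL1 P (Finsupp.single s 1)) = toL1 (Q.comp P) (Finsupp.single (Sum.inr s) 1) := by
  rw [L1map_toL1, PresHom.relModMap_single]
  exact toL1_ringHom_smul _ (map_one _) _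

theorem L1map_ofC_single (a : σ' ⊕ σ) :
    (ofC P Q).L1map (toL1 (Q.comp P) (Finsupp.single a 1)) =
      Sum.elim (fun r => toL1 Q (Finsupp.single r 1)) (fun _ => 0) a := by
  rw [L1map_toL1, PresHom.relModMap_single, toL1_ringHom_smul _ (map_one _)]
  rcases a with r | s
  · rfl
  · exact map_zero _

theorem mkL1_basis {X Y : Type u} [CommRing X] [CommRing Y] [Algebra X Y] {κ τ : Type u}
    (R : Algebra.Presentation X Y κ τ) {N : Type m} [AddCommGroup N] [Module Y N] (g : τ → N) (s : τ) :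
    mkL1 R N g (toL1 R (Finsupp.single s 1)) = g s := by
  rw [mkL1_single, map_one, one_smul]

theorem L1_ext_single {X Y : Type u} [CommRing X] [CommRing Y] [Algebra X Y] {κ τ : Type u}
    {R : Algebra.Presentation X Y κ τ} {N : Type m} [AddCommGroup N] [Module Y N] {φ ψ : L1 R →ₗ[Y] N}
    (h : ∀ s, φ (toL1 R (Finsupp.single s 1)) = ψ (toL1 R (Finsupp.single s 1))) : φ = ψ :=
  (L1basis R).ext fun s => by rw [L1basis_apply]; exact h s

theorem pull1_toC_surjective (ψ : L1 P →ₗ[B] M) : ∃ φ : L1 (Q.comp P) →ₗ[C] M, (toC P Q).pull1 M φ = ψ :=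
  ⟨mkL1 (Q.comp P) M (Sum.elim (fun _ => 0) fun s => ψ (toL1 P (Finsupp.single s 1))), L1_ext_single fun s => by
    rw [PresHom.pull1_apply, L1map_toC_single, mkL1_basis]; rfl⟩

theorem pull1_ofC_injective {ψ : L1 Q →ₗ[C] M} (h : (ofC P Q).pull1 M ψ = 0) : ψ = 0 :=
  L1_ext_single fun r => by
    have h1 := LinearMap.congr_fun h (toL1 (Q.comp P) (Finsupp.single (Sum.inl r) 1))
    rw [PresHom.pull1_apply, L1map_ofC_single] at h1
    exact h1

theorem pull1_toC_ofC (ψ : L1 Q →ₗ[C] M) : (toC P Q).pull1 M ((ofC P Q).pull1 M ψ) = 0 :=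
  L1_ext_single fun s => by
    rw [PresHom.pull1_apply, L1map_toC_single, PresHom.pull1_apply, L1map_ofC_single]
    exact map_zero ψ

theorem exists_pull1_ofC {φ : L1 (Q.comp P) →ₗ[C] M} (h : (toC P Q).pull1 M φ = 0) :
    ∃ ψ : L1 Q →ₗ[C] M, (ofC P Q).pull1 M ψ = φ := by
  refine ⟨mkL1 Q M fun r => φ (toL1 (Q.comp P) (Finsupp.single (Sum.inl r) 1)), L1_ext_single ?_⟩
  rintro (r | s)
  · rw [PresHom.pull1_apply, L1map_ofC_single]
    exact mkL1_basis Q _ r
  · rw [PresHom.pull1_apply, L1map_ofC_single]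
    refine (map_zero _).trans ?_
    have h1 := LinearMap.congr_fun h (toL1 P (Finsupp.single s 1))
    rw [PresHom.pull1_apply, L1map_toC_single] at h1
    exact h1.symm

theorem L0map_basis {X Y X' Y' : Type u} [CommRing X] [CommRing Y] [Algebra X Y] [CommRing X'] [CommRing Y']
    [Algebra X' Y'] [Algebra X X'] [Algebra Y Y'] [Algebra X Y'] [IsScalarTower X X' Y'] [IsScalarTower X Y Y']
    {κ τ κ' τ' : Type u} {R : Algebra.Presentation X Y κ τ} {R' : Algebra.Presentation X' Y' κ' τ'}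
    (h : PresHom R R') (i : κ) :
    h.L0map (R.cotangentSpaceBasis i) = (1 : Y') ⊗ₜ[R'.toExtension.Ring]
      KaehlerDifferential.D X' R'.toExtension.Ring (h.hom.val i) := by
  refine (congrArg h.L0map (Algebra.Generators.cotangentSpaceBasis_apply _ i)).trans ?_
  refine (Algebra.Extension.CotangentSpace.map_tmul h.hom.toExtensionHom 1 (MvPolynomial.X i)).trans ?_
  refine congrArg₂ (fun y z => y ⊗ₜ[R'.toExtension.Ring] KaehlerDifferential.D X' R'.toExtension.Ring z) (map_one _) ?_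
  exact Algebra.Generators.Hom.toAlgHom_X h.hom i

theorem L0map_toC_basis (i : ι) :
    (toC P Q).L0map (P.cotangentSpaceBasis i) = (Q.comp P).cotangentSpaceBasis (Sum.inr i) := by
  exact (L0map_basis (toC P Q) i).trans (Algebra.Generators.cotangentSpaceBasis_apply _ (Sum.inr i)).symm

theorem L0map_ofC_basis (a : ι' ⊕ ι) :
    (ofC P Q).L0map ((Q.comp P).cotangentSpaceBasis a) = Sum.elim (fun j => Q.cotangentSpaceBasis j) (fun _ => 0) a := by
  refine (L0map_basis (ofC P Q) a).trans ?_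
  rcases a with j | i
  · exact (Algebra.Generators.cotangentSpaceBasis_apply _ j).symm
  · show (1 : C) ⊗ₜ[Q.toExtension.Ring] KaehlerDifferential.D B Q.toExtension.Ring
      (algebraMap B Q.toExtension.Ring (P.val i)) = 0
    rw [Derivation.map_algebraMap, TensorProduct.tmul_zero]

theorem pull0_toC_surjective (ψ : L0 P →ₗ[B] M) : ∃ φ : L0 (Q.comp P) →ₗ[C] M, (toC P Q).pull0 M φ = ψ :=
  ⟨(Q.comp P).cotangentSpaceBasis.constr C (Sum.elim (fun _ => 0) fun i => ψ (P.cotangentSpaceBasis i)),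
    P.cotangentSpaceBasis.ext fun i => by
      rw [PresHom.pull0_apply, L0map_toC_basis]
      exact Module.Basis.constr_basis _ C _ (Sum.inr i)⟩

theorem pull0_ofC_injective {ψ : L0 Q →ₗ[C] M} (h : (ofC P Q).pull0 M ψ = 0) : ψ = 0 :=
  Q.cotangentSpaceBasis.ext fun j => by
    have h1 := LinearMap.congr_fun h ((Q.comp P).cotangentSpaceBasis (Sum.inl j))
    rw [PresHom.pull0_apply, L0map_ofC_basis] at h1
    exact h1

theorem pull0_toC_ofC (ψ : L0 Q →ₗ[C] M) : (toC P Q).pull0 M ((ofC P Q).pull0 M ψ) = 0 :=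
  P.cotangentSpaceBasis.ext fun i => by
    rw [PresHom.pull0_apply, L0map_toC_basis, PresHom.pull0_apply, L0map_ofC_basis]
    exact map_zero ψ

theorem exists_pull0_ofC {φ : L0 (Q.comp P) →ₗ[C] M} (h : (toC P Q).pull0 M φ = 0) :
    ∃ ψ : L0 Q →ₗ[C] M, (ofC P Q).pull0 M ψ = φ := by
  refine ⟨Q.cotangentSpaceBasis.constr C fun j => φ ((Q.comp P).cotangentSpaceBasis (Sum.inl j)),
    (Q.comp P).cotangentSpaceBasis.ext ?_⟩
  rintro (j | i)
  · rw [PresHom.pull0_apply, L0map_ofC_basis]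
    exact Module.Basis.constr_basis _ C _ j
  · rw [PresHom.pull0_apply, L0map_ofC_basis]
    refine (map_zero _).trans ?_
    have h1 := LinearMap.congr_fun h (P.cotangentSpaceBasis i)
    rw [PresHom.pull0_apply, L0map_toC_basis] at h1
    exact h1.symm

theorem pull2_ofC_injective {β : L2 Q →ₗ[C] M} (h : (ofC P Q).pull2 M β = 0) : β = 0 :=
  L2_ext fun q => by
    obtain ⟨q', hq'⟩ := exists_relKer_lift P Q q
    have h1 := LinearMap.congr_fun h (toL2 (Q.comp P) q')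
    rw [PresHom.pull2_apply, L2map_toL2] at h1
    rw [show q = (ofC P Q).relKerMap q' from Subtype.ext (by rw [PresHom.relKerMap_coe, hq'])]
    exact h1

theorem pull2_toC_ofC (β : L2 Q →ₗ[C] M) : (toC P Q).pull2 M ((ofC P Q).pull2 M β) = 0 :=
  L2_ext fun q => by
    rw [PresHom.pull2_apply, L2map_toL2, PresHom.pull2_apply, L2map_toL2,
      show (ofC P Q).relKerMap ((toC P Q).relKerMap q) = 0 from Subtype.ext (by
        rw [PresHom.relKerMap_coe, PresHom.relKerMap_coe, Submodule.coe_zero]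
        exact ofC_relModMap_inrSpan P Q (toC_relModMap_mem P Q q)), map_zero, map_zero]
    rfl

theorem exists_pull2_ofC {α : L2 (Q.comp P) →ₗ[C] M} (h : (toC P Q).pull2 M α = 0) :
    ∃ β : L2 Q →ₗ[C] M, (ofC P Q).pull2 M β = α := by
  choose lift hlift using exists_relKer_lift P Q
  have huniq : ∀ x y : relKer (Q.comp P),
      (ofC P Q).relModMap (x : relMod (Q.comp P)) - (ofC P Q).relModMap (y : relMod (Q.comp P)) ∈ trivRel Q →
        α (toL2 (Q.comp P) x) = α (toL2 (Q.comp P) y) := by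
    intro x y hxy
    rw [← sub_eq_zero, ← map_sub, ← map_sub]
    refine eq_zero_of_toC_pull2_eq_zero P Q h ?_
    rwa [Submodule.coe_sub, map_sub]
  let β0 : relKer Q →+ M :=
    AddMonoidHom.mk' (fun q => α (toL2 (Q.comp P) (lift q))) fun x y => by
      rw [← map_add, ← map_add]
      refine huniq _ _ ?_
      rw [Submodule.coe_add, map_add, hlift, hlift, hlift, Submodule.coe_add, sub_self]
      exact zero_mem _
  refine ⟨mkL2 β0 (fun r q => ?_) (fun q hq => ?_), L2_ext fun q => ?_⟩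
  · obtain ⟨d, rfl⟩ := ofC_ringHom_surjective P Q r
    rw [PresHom.algebraMap_ringHom, Algebra.algebraMap_self, RingHom.id_apply]
    refine Eq.trans ?_ ((congrArg α (toL2_smul d (lift q))).trans (α.map_smul _ _))
    refine huniq _ _ ?_
    rw [Submodule.coe_smul, LinearMap.map_smulₛₗ, hlift, hlift, Submodule.coe_smul, sub_self]
    exact zero_mem _
  · refine eq_zero_of_toC_pull2_eq_zero P Q h ?_
    rw [hlift]; exact hq
  · rw [PresHom.pull2_apply, L2map_toL2]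
    refine (mkL2_toL2 β0 _ _ _).trans ?_
    refine huniq _ _ ?_
    rw [hlift, PresHom.relKerMap_coe, sub_self]
    exact zero_mem _

theorem exact_T0pull : Function.Injective ((ofC P Q).T0pull M) ∧
    Function.Exact ((ofC P Q).T0pull M) ((toC P Q).T0pull M) := by
  refine ⟨(injective_iff_map_eq_zero _).2 fun z hz =>
    Subtype.ext (pull0_ofC_injective P Q M (congrArg Subtype.val hz)), fun z => ⟨fun hz => ?_, ?_⟩⟩
  · obtain ⟨ψ, hψ⟩ := exists_pull0_ofC P Q M (congrArg Subtype.val hz)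
    refine ⟨⟨ψ, pull1_ofC_injective P Q M ?_⟩, Subtype.ext hψ⟩
    rw [PresHom.pull1_d1Star, hψ]
    exact z.2
  · rintro ⟨w, rfl⟩
    exact Subtype.ext (pull0_toC_ofC P Q M w)

theorem exact_T1pull : Function.Exact ((ofC P Q).T1pull M) ((toC P Q).T1pull M) := by
  intro z
  constructor
  · intro hz
    obtain ⟨φ, rfl⟩ := Submodule.Quotient.mk_surjective _ z
    obtain ⟨χ, hχ⟩ := (Submodule.Quotient.mk_eq_zero _).1 hz
    obtain ⟨χ', rfl⟩ := pull0_toC_surjective P Q M χ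
    obtain ⟨ψ, hψ⟩ := exists_pull1_ofC P Q M (φ := (φ : L1 (Q.comp P) →ₗ[C] M) - d1Star (Q.comp P) M χ') (by
      rw [map_sub, PresHom.pull1_d1Star, hχ]; exact sub_self _)
    refine ⟨Submodule.Quotient.mk ⟨ψ, pull2_ofC_injective P Q M ?_⟩, (Submodule.Quotient.eq _).2 ⟨-χ', ?_⟩⟩
    · rw [PresHom.pull2_d2Star, hψ, map_sub, show d2Star (Q.comp P) M (φ : L1 (Q.comp P) →ₗ[C] M) = 0 from φ.2]
      exact (zero_sub _).trans (neg_eq_zero.2 (LinearMap.congr_fun (d2Star_comp_d1Star (Q.comp P) M) χ'))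
    · show d1Star (Q.comp P) M (-χ') = (ofC P Q).pull1 M ψ - φ
      rw [hψ, map_neg]; abel
  · rintro ⟨w, rfl⟩
    obtain ⟨w, rfl⟩ := Submodule.Quotient.mk_surjective _ w
    exact (congrArg Submodule.Quotient.mk (Subtype.ext (pull1_toC_ofC P Q M w))).trans (Submodule.Quotient.mk_zero _)

theorem exact_T2pull : Function.Exact ((ofC P Q).T2pull M) ((toC P Q).T2pull M) := by
  intro z
  constructor
  · intro hz
    obtain ⟨α, rfl⟩ := Submodule.Quotient.mk_surjective _ z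
    obtain ⟨χ, hχ⟩ := (Submodule.Quotient.mk_eq_zero _).1 hz
    obtain ⟨χ', rfl⟩ := pull1_toC_surjective P Q M χ
    obtain ⟨β, hβ⟩ := exists_pull2_ofC P Q M (α := α - d2Star (Q.comp P) M χ') (by
      rw [map_sub, PresHom.pull2_d2Star, hχ]; exact sub_self _)
    refine ⟨Submodule.Quotient.mk β, (Submodule.Quotient.eq _).2 ⟨-χ', ?_⟩⟩
    show d2Star (Q.comp P) M (-χ') = (ofC P Q).pull2 M β - α
    rw [hβ, map_neg]; abel
  · rintro ⟨w, rfl⟩
    obtain ⟨w, rfl⟩ := Submodule.Quotient.mk_surjective _ w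
    exact (congrArg Submodule.Quotient.mk (pull2_toC_ofC P Q M w)).trans (Submodule.Quotient.mk_zero _)

theorem exists_delta0' : ∃ δ₀ : T0 P M →+ T1 Q M,
    Function.Exact ((toC P Q).T0pull M) δ₀ ∧ Function.Exact δ₀ ((ofC P Q).T1pull M) := by
  have hex : ∀ φ : T0 P M, ∃ (χ : L0 (Q.comp P) →ₗ[C] M) (ψ : cocycles1 Q M),
      (toC P Q).pull0 M χ = φ ∧ (ofC P Q).pull1 M (ψ : L1 Q →ₗ[C] M) = d1Star (Q.comp P) M χ := by
    intro φ
    obtain ⟨χ, hχ⟩ := pull0_toC_surjective P Q M (φ : L0 P →ₗ[B] M)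
    obtain ⟨ψ, hψ⟩ := exists_pull1_ofC P Q M (φ := d1Star (Q.comp P) M χ) (by
      rw [PresHom.pull1_d1Star, hχ]; exact φ.2)
    refine ⟨χ, ⟨ψ, pull2_ofC_injective P Q M ?_⟩, hχ, hψ⟩
    rw [PresHom.pull2_d2Star, hψ]
    exact LinearMap.congr_fun (d2Star_comp_d1Star (Q.comp P) M) χ
  choose χ ψ hχ hψ using hex
  have huniq : ∀ (φ : T0 P M) (χ' : L0 (Q.comp P) →ₗ[C] M) (ψ' : cocycles1 Q M),
      (toC P Q).pull0 M χ' = φ → (ofC P Q).pull1 M (ψ' : L1 Q →ₗ[C] M) = d1Star (Q.comp P) M χ' →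
      (Submodule.Quotient.mk (ψ φ) : T1 Q M) = Submodule.Quotient.mk ψ' := by
    intro φ χ' ψ' h1 h2
    obtain ⟨e, he⟩ := exists_pull0_ofC P Q M (φ := χ φ - χ') (by rw [map_sub, hχ, h1, sub_self])
    refine (Submodule.Quotient.eq _).2 ⟨e, ?_⟩
    refine sub_eq_zero.1 (pull1_ofC_injective P Q M ?_)
    rw [map_sub, PresHom.pull1_d1Star, he, map_sub]
    show _ - (ofC P Q).pull1 M ((ψ φ : L1 Q →ₗ[C] M) - (ψ' : L1 Q →ₗ[C] M)) = 0
    rw [map_sub, hψ, h2, sub_self]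
  refine ⟨AddMonoidHom.mk' (fun φ => Submodule.Quotient.mk (ψ φ)) fun a b => ?_,
    fun φ => ⟨fun h => ?_, ?_⟩, fun z => ⟨fun h => ?_, ?_⟩⟩
  · refine (huniq (a + b) (χ a + χ b) (ψ a + ψ b) ?_ ?_).trans (Submodule.Quotient.mk_add _)
    · rw [map_add, hχ, hχ, Submodule.coe_add]
    · rw [Submodule.coe_add, map_add, hψ, hψ, map_add]
  · obtain ⟨e, he⟩ := (Submodule.Quotient.mk_eq_zero _).1 h
    refine ⟨⟨χ φ - (ofC P Q).pull0 M e, ?_⟩, Subtype.ext ?_⟩
    · show d1Star (Q.comp P) M _ = 0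
      rw [map_sub, ← hψ, ← PresHom.pull1_d1Star, he]
      exact sub_self _
    · show (toC P Q).pull0 M (χ φ - (ofC P Q).pull0 M e) = (φ : L0 P →ₗ[B] M)
      rw [map_sub, pull0_toC_ofC, sub_zero, hχ]
  · rintro ⟨w, rfl⟩
    refine (huniq _ (w : L0 (Q.comp P) →ₗ[C] M) 0 rfl ?_).trans (Submodule.Quotient.mk_zero _)
    rw [Submodule.coe_zero, map_zero]
    exact w.2.symm
  · obtain ⟨c, rfl⟩ := Submodule.Quotient.mk_surjective _ z
    obtain ⟨e, he⟩ := (Submodule.Quotient.mk_eq_zero _).1 h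
    refine ⟨⟨(toC P Q).pull0 M e, ?_⟩, huniq _ e c rfl he.symm⟩
    show d1Star P M _ = 0
    rw [← PresHom.pull1_d1Star, he]
    exact pull1_toC_ofC P Q M c
  · rintro ⟨φ, rfl⟩
    exact (Submodule.Quotient.mk_eq_zero _).2 ⟨χ φ, (hψ φ).symm⟩

theorem exists_delta1_map : ∃ δ₁ : T1 P M →+ T2 Q M,
    ∀ φ : cocycles1 P M, ∃ (χ : L1 (Q.comp P) →ₗ[C] M) (β : L2 Q →ₗ[C] M),
      (toC P Q).pull1 M χ = φ ∧ (ofC P Q).pull2 M β = d2Star (Q.comp P) M χ ∧
      δ₁ (Submodule.Quotient.mk φ) = Submodule.Quotient.mk β ∧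
      ∀ χ' β', (toC P Q).pull1 M χ' = φ → (ofC P Q).pull2 M β' = d2Star (Q.comp P) M χ' →
        δ₁ (Submodule.Quotient.mk φ) = Submodule.Quotient.mk β' := by
  have hex : ∀ φ : cocycles1 P M, ∃ (χ : L1 (Q.comp P) →ₗ[C] M) (β : L2 Q →ₗ[C] M),
      (toC P Q).pull1 M χ = φ ∧ (ofC P Q).pull2 M β = d2Star (Q.comp P) M χ := by
    intro φ
    obtain ⟨χ, hχ⟩ := pull1_toC_surjective P Q M (φ : L1 P →ₗ[B] M)
    obtain ⟨β, hβ⟩ := exists_pull2_ofC P Q M (α := d2Star (Q.comp P) M χ) (by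
      rw [PresHom.pull2_d2Star, hχ]; exact φ.2)
    exact ⟨χ, β, hχ, hβ⟩
  choose χ β hχ hβ using hex
  have huniq : ∀ (φ : cocycles1 P M) (χ' : L1 (Q.comp P) →ₗ[C] M) (β' : L2 Q →ₗ[C] M),
      (toC P Q).pull1 M χ' = φ → (ofC P Q).pull2 M β' = d2Star (Q.comp P) M χ' →
      (Submodule.Quotient.mk (β φ) : T2 Q M) = Submodule.Quotient.mk β' := by
    intro φ χ' β' h1 h2
    obtain ⟨e, he⟩ := exists_pull1_ofC P Q M (φ := χ φ - χ') (by rw [map_sub, hχ, h1, sub_self])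
    refine (Submodule.Quotient.eq _).2 ⟨e, ?_⟩
    refine sub_eq_zero.1 (pull2_ofC_injective P Q M ?_)
    rw [map_sub, PresHom.pull2_d2Star, he, map_sub, map_sub, hβ, h2, sub_self]
  let δ : cocycles1 P M →+ T2 Q M := AddMonoidHom.mk' (fun φ => Submodule.Quotient.mk (β φ)) fun a b => by
    refine (huniq (a + b) (χ a + χ b) (β a + β b) ?_ ?_).trans (Submodule.Quotient.mk_add _)
    · rw [map_add, hχ, hχ, Submodule.coe_add]
    · rw [map_add, hβ, hβ, map_add]
  have hker : (coboundaries1 P M).toAddSubgroup ≤ δ.ker := by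
    rintro φ ⟨c, hc⟩
    obtain ⟨c', rfl⟩ := pull0_toC_surjective P Q M c
    refine (huniq φ (d1Star (Q.comp P) M c') 0 ?_ ?_).trans (Submodule.Quotient.mk_zero _)
    · rw [PresHom.pull1_d1Star, hc]; rfl
    · rw [map_zero]
      exact (LinearMap.congr_fun (d2Star_comp_d1Star (Q.comp P) M) c').symm
  exact ⟨QuotientAddGroup.lift _ δ hker, fun φ => ⟨χ φ, β φ, hχ φ, hβ φ, rfl, huniq φ⟩⟩

theorem exists_cocycle_lift {φ : cocycles1 P M} {χ : L1 (Q.comp P) →ₗ[C] M} {β : L2 Q →ₗ[C] M}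
    (hχ : (toC P Q).pull1 M χ = φ) (hβ : (ofC P Q).pull2 M β = d2Star (Q.comp P) M χ)
    (h : (Submodule.Quotient.mk β : T2 Q M) = 0) :
    (Submodule.Quotient.mk φ : T1 P M) ∈ Set.range ((toC P Q).T1pull M) := by
  obtain ⟨e, he⟩ := (Submodule.Quotient.mk_eq_zero _).1 h
  have hw : d2Star (Q.comp P) M (χ - (ofC P Q).pull1 M e) = 0 := by
    rw [map_sub, ← hβ, ← PresHom.pull2_d2Star, he, sub_self]
  refine ⟨Submodule.Quotient.mk (⟨χ - (ofC P Q).pull1 M e, hw⟩ : cocycles1 (Q.comp P) M), ?_⟩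
  refine congrArg Submodule.Quotient.mk (Subtype.ext ?_)
  show (toC P Q).pull1 M (χ - (ofC P Q).pull1 M e) = (φ : L1 P →ₗ[B] M)
  rw [map_sub, pull1_toC_ofC, sub_zero, hχ]

theorem exists_delta1' : ∃ δ₁ : T1 P M →+ T2 Q M,
    Function.Exact ((toC P Q).T1pull M) δ₁ ∧ Function.Exact δ₁ ((ofC P Q).T2pull M) := by
  obtain ⟨δ₁, hδ⟩ := exists_delta1_map P Q M
  choose χ β hχ hβ hval huniq using hδ
  refine ⟨δ₁, fun z => ⟨fun h => ?_, ?_⟩, fun z => ⟨fun h => ?_, ?_⟩⟩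
  · obtain ⟨φ, rfl⟩ := Submodule.Quotient.mk_surjective _ z
    exact exists_cocycle_lift P Q M (hχ φ) (hβ φ) ((hval φ).symm.trans h)
  · rintro ⟨w, rfl⟩
    obtain ⟨w, rfl⟩ := Submodule.Quotient.mk_surjective _ w
    refine ((huniq ((toC P Q).cocycles1Pull M w) (w : L1 (Q.comp P) →ₗ[C] M) 0 rfl ?_)).trans
      (Submodule.Quotient.mk_zero _)
    rw [map_zero]
    exact w.2.symm
  · obtain ⟨c, rfl⟩ := Submodule.Quotient.mk_surjective _ z
    obtain ⟨e, he⟩ := (Submodule.Quotient.mk_eq_zero _).1 h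
    have hw : d2Star P M ((toC P Q).pull1 M e) = 0 := by
      rw [← PresHom.pull2_d2Star, he]
      exact pull2_toC_ofC P Q M c
    exact ⟨Submodule.Quotient.mk (⟨(toC P Q).pull1 M e, hw⟩ : cocycles1 P M), huniq _ e c rfl he.symm⟩
  · rintro ⟨w, rfl⟩
    obtain ⟨φ, rfl⟩ := Submodule.Quotient.mk_surjective _ w
    rw [hval]
    exact (Submodule.Quotient.mk_eq_zero _).2 ⟨χ φ, (hβ φ).symm⟩

end Groth.Agent.CotTLib
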