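import Groth.Agent.CotTLib.NineTerm

/-!
# The nine-term sequence for arbitrary presentations
-/

universe u m

open TensorProduct

noncomputable section

namespace Groth.Agent.CotTLib

open CotT

variable {A B C : Type u} [CommRing A] [CommRing B] [CommRing C] [Algebra A B] [Algebra B C] [Algebra A C]
  [IsScalarTower A B C] {ι σ ι' σ' ι'' σ'' : Type u}

theorem nineTerm (P : Algebra.Presentation A B ι σ) (Q : Algebra.Presentation B C ι' σ')
    (X : Algebra.Presentation A C ι'' σ'') (a : PresHom X Q) (b : PresHom P X)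
    (M : Type m) [AddCommGroup M] [Module C M] [Module B M] [IsScalarTower B C M] :
    Function.Injective (a.T0pull M) ∧
    Function.Exact (a.T0pull M) (b.T0pull M) ∧
    Function.Exact (a.T1pull M) (b.T1pull M) ∧
    Function.Exact (a.T2pull M) (b.T2pull M) ∧
    ∃ (δ₀ : T0 P M →+ T1 Q M) (δ₁ : T1 P M →+ T2 Q M),
      Function.Exact (b.T0pull M) δ₀ ∧ Function.Exact δ₀ (a.T1pull M) ∧
      Function.Exact (b.T1pull M) δ₁ ∧ Function.Exact δ₁ (a.T2pull M) := by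
  let g : PresHom X (Q.comp P) := presHom X (Q.comp P)
  let g' : PresHom (Q.comp P) X := presHom (Q.comp P) X
  have hbij0 : Function.Bijective (g.T0pull M) :=
    ⟨Function.LeftInverse.injective (g := g'.T0pull M) fun z => T0pull_pull M g' g z,
      fun z => ⟨g'.T0pull M z, T0pull_pull M g g' z⟩⟩
  have hbij1 : Function.Bijective (g.T1pull M) :=
    ⟨Function.LeftInverse.injective (g := g'.T1pull M) fun z => T1pull_pull M g' g z,
      fun z => ⟨g'.T1pull M z, T1pull_pull M g g' z⟩⟩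
  have hbij2 : Function.Bijective (g.T2pull M) :=
    ⟨Function.LeftInverse.injective (g := g'.T2pull M) fun z => T2pull_pull M g' g z,
      fun z => ⟨g'.T2pull M z, T2pull_pull M g g' z⟩⟩
  have ha0 : ∀ z, a.T0pull M z = g.T0pull M ((ofC P Q).T0pull M z) := fun z => by
    rw [← T0pull_presComp, T0pull_eq (presComp (ofC P Q) g) a]
  have ha1 : ∀ z, a.T1pull M z = g.T1pull M ((ofC P Q).T1pull M z) := fun z => by
    rw [← T1pull_presComp, T1pull_eq (presComp (ofC P Q) g) a]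
  have ha2 : ∀ z, a.T2pull M z = g.T2pull M ((ofC P Q).T2pull M z) := fun z => by
    rw [← T2pull_presComp, T2pull_eq (presComp (ofC P Q) g) a]
  have hb0 : ∀ z, (toC P Q).T0pull M z = b.T0pull M (g.T0pull M z) := fun z => by
    rw [← T0pull_presComp, T0pull_eq (presComp g b) (toC P Q)]
  have hb1 : ∀ z, (toC P Q).T1pull M z = b.T1pull M (g.T1pull M z) := fun z => by
    rw [← T1pull_presComp, T1pull_eq (presComp g b) (toC P Q)]
  have hb2 : ∀ z, (toC P Q).T2pull M z = b.T2pull M (g.T2pull M z) := fun z => by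
    rw [← T2pull_presComp, T2pull_eq (presComp g b) (toC P Q)]
  obtain ⟨hinj, hex0⟩ := exact_T0pull P Q M
  obtain ⟨δ₀, h00, h01⟩ := exists_delta0' P Q M
  obtain ⟨δ₁, h10, h11⟩ := exists_delta1' P Q M
  refine ⟨?_, ?_, ?_, ?_, δ₀, δ₁, ?_, ?_, ?_, ?_⟩
  · intro x y h
    rw [ha0, ha0] at h
    exact hinj (hbij0.1 h)
  · intro z
    obtain ⟨w, rfl⟩ := hbij0.2 z
    rw [← hb0, hex0 w]
    exact ⟨fun ⟨v, hv⟩ => ⟨v, by rw [ha0, hv]⟩, fun ⟨v, hv⟩ => ⟨v, hbij0.1 (by rw [← ha0, hv])⟩⟩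
  · intro z
    obtain ⟨w, rfl⟩ := hbij1.2 z
    rw [← hb1, exact_T1pull P Q M w]
    exact ⟨fun ⟨v, hv⟩ => ⟨v, by rw [ha1, hv]⟩, fun ⟨v, hv⟩ => ⟨v, hbij1.1 (by rw [← ha1, hv])⟩⟩
  · intro z
    obtain ⟨w, rfl⟩ := hbij2.2 z
    rw [← hb2, exact_T2pull P Q M w]
    exact ⟨fun ⟨v, hv⟩ => ⟨v, by rw [ha2, hv]⟩, fun ⟨v, hv⟩ => ⟨v, hbij2.1 (by rw [← ha2, hv])⟩⟩
  · intro z
    rw [h00 z]
    exact ⟨fun ⟨v, hv⟩ => ⟨g.T0pull M v, by rw [← hb0, hv]⟩, fun ⟨v, hv⟩ => by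
      obtain ⟨w, rfl⟩ := hbij0.2 v
      exact ⟨w, by rw [hb0, hv]⟩⟩
  · intro z
    rw [ha1]
    exact ⟨fun e => (h01 z).1 (hbij1.1 (e.trans (map_zero (g.T1pull M)).symm)),
      fun e => (congrArg (g.T1pull M) ((h01 z).2 e)).trans (map_zero (g.T1pull M))⟩
  · intro z
    rw [h10 z]
    exact ⟨fun ⟨v, hv⟩ => ⟨g.T1pull M v, by rw [← hb1, hv]⟩, fun ⟨v, hv⟩ => by
      obtain ⟨w, rfl⟩ := hbij1.2 v
      exact ⟨w, by rw [hb1, hv]⟩⟩
  · intro z
    rw [ha2]
    exact ⟨fun e => (h11 z).1 (hbij2.1 (e.trans (map_zero (g.T2pull M)).symm)),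
      fun e => (congrArg (g.T2pull M) ((h11 z).2 e)).trans (map_zero (g.T2pull M))⟩

end Groth.Agent.CotTLib
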