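import Groth.Agent.CotTLib.Smooth
import Groth.Agent.CAlgH3.RegularCore
import Mathlib

/-!
# A regular quotient of a regular ring is locally cut out by regular sequences
-/

universe u v w t

noncomputable section

namespace Groth.Agent.CotTLib

open RingTheory.Sequence

theorem regular_lci {R B : Type u} [CommRing R] [CommRing B] (g : R →+* B) (hg : Function.Surjective g)
    (p : Ideal R) [p.IsPrime] (hp : RingHom.ker g ≤ p) [IsRegularLocalRing (Localization.AtPrime p)]
    (hB : ∀ (q : Ideal B) [q.IsPrime], IsRegularLocalRing (Localization.AtPrime q)) :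
    ∃ (n : ℕ) (y : Fin n → Localization.AtPrime p), IsWeaklyRegular (Localization.AtPrime p) (List.ofFn y) ∧
      (RingHom.ker g).map (algebraMap R (Localization.AtPrime p)) = Ideal.span (Set.range y) := by
  let q : Ideal B := p.map g
  have : q.IsPrime := Ideal.map_isPrime_of_surjective hg hp
  have hq : p = q.comap g := by
    rw [Ideal.comap_map_of_surjective _ hg, left_eq_sup]
    exact hp
  let φ := Localization.localRingHom p q g hq
  have hφ : Function.Surjective φ := by
    intro x
    obtain ⟨b, ⟨s, hs⟩, rfl⟩ := IsLocalization.exists_mk'_eq q.primeCompl x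
    obtain ⟨a, rfl⟩ := hg b
    obtain ⟨t, rfl⟩ := hg s
    have ht : t ∈ p.primeCompl := fun h => hs (Ideal.mem_map_of_mem g h)
    exact ⟨IsLocalization.mk' _ a ⟨t, ht⟩, Localization.localRingHom_mk' _ _ g hq a ⟨t, ht⟩⟩
  have hker : RingHom.ker φ = (RingHom.ker g).map (algebraMap R (Localization.AtPrime p)) := by
    refine le_antisymm (fun x hx => ?_) (Ideal.map_le_iff_le_comap.2 fun a ha => ?_)
    · obtain ⟨a, s, rfl⟩ := IsLocalization.exists_mk'_eq p.primeCompl x
      rw [RingHom.mem_ker, Localization.localRingHom_mk', IsLocalization.mk'_eq_zero_iff] at hx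
      obtain ⟨⟨b, hb⟩, hab⟩ := hx
      obtain ⟨t, rfl⟩ := hg b
      have ht : t ∈ p.primeCompl := fun h => hb (Ideal.mem_map_of_mem g h)
      rw [IsLocalization.mk'_mem_map_algebraMap_iff]
      exact ⟨t, ht, by rw [RingHom.mem_ker, map_mul]; exact hab⟩
    · rw [Ideal.mem_comap, RingHom.mem_ker, Localization.localRingHom_to_map, RingHom.mem_ker.1 ha, map_zero]
  have hreg : IsRegularLocalRing (Localization.AtPrime p ⧸ RingHom.ker φ) :=
    have := hB q
    IsRegularLocalRing.of_ringEquiv (RingHom.quotientKerEquivOfSurjective hφ).symm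
  obtain ⟨rs, hlen, hspan, c, -, hI⟩ := CAlgH3.exists_sop_of_regular_quotient _ _ rfl (RingHom.ker φ)
  have hw : IsWeaklyRegular (Localization.AtPrime p) rs :=
    (CAlgH3.isRegular_of_ofList_eq_maximalIdeal rs hspan hlen).toIsWeaklyRegular
  rw [← List.take_append_drop c rs, isWeaklyRegular_append_iff] at hw
  refine ⟨(rs.take c).length, (rs.take c).get, by rw [List.ofFn_get]; exact hw.1, ?_⟩
  rw [← hker, hI, Ideal.ofList]
  congr 1
  ext x
  simp [List.mem_iff_get]

variable {k B : Type u} [Field k] [CommRing B] [Algebra k B]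

/-- For a finitely presented algebra over a field with regular local rings, `d₂` is injective. -/
theorem injective_d2_of_regular {ι : Type} {σ : Type t} [Finite ι] (P : Algebra.Presentation k B ι σ)
    (hB : ∀ (q : Ideal B) [q.IsPrime], IsRegularLocalRing (Localization.AtPrime q)) :
    Function.Injective (CotT.d2 P) := by
  have : IsRegularRing P.toExtension.Ring := inferInstanceAs (IsRegularRing (MvPolynomial ι k))
  exact injective_d2_of_lci fun p _ hp => regular_lci _ P.toExtension.algebraMap_surjective p hp hB

end Groth.Agent.CotTLib
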