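import Groth.Agent.CotTLib.Comparison

/-!
# A morphism over a bijective ring map of polynomial rings induces a bijection on `T²`
-/

universe u v w t u' w' t' m

open TensorProduct

noncomputable section

namespace Groth.Agent.CotTLib

open CotT

variable {A : Type u} {B : Type v} {ι : Type w} {σ : Type t} {A' : Type u'} {ι' : Type w'} {σ' : Type t'}
variable [CommRing A] [CommRing B] [Algebra A B] [CommRing A'] [Algebra A' B] [Algebra A A'] [IsScalarTower A A' B]
variable {P : Algebra.Presentation A B ι σ} {P' : Algebra.Presentation A' B ι' σ'}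
variable {M : Type m} [AddCommGroup M] [Module B M]

/-- An endomorphism of `F` over `id_R` lifting `j` changes a map on `L₂` by a restriction from `L₁`. -/
theorem exists_restriction_of_endo (e : relMod P →ₗ[P.toExtension.Ring] relMod P)
    (he : ∀ f, jmap P (e f) = jmap P f) (α : L2 P →ₗ[B] M) :
    ∃ φ : L1 P →ₗ[B] M, ∀ q : relKer P,
      φ (toL1 P q) = α (toL2 P ⟨e q, (he q).trans q.2⟩) - α (toL2 P q) := by
  let η : σ → relKer P := fun s => ⟨e (Finsupp.single s 1) - Finsupp.single s 1, by
    show jmap P _ = 0
    rw [map_sub, he, sub_self]⟩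
  let η' : relMod P →ₗ[P.toExtension.Ring] relKer P :=
    (e - LinearMap.id).codRestrict (relKer P) fun f => by
      show jmap P _ = 0
      rw [LinearMap.sub_apply, map_sub, he, LinearMap.id_apply, sub_self]
  refine ⟨mkL1 P M fun s => α (toL2 P (η s)), fun q => ?_⟩
  have key : ∀ f : relMod P, mkL1 P M (fun s => α (toL2 P (η s))) (toL1 P f) = α (toL2 P (η' f)) := by
    intro f
    induction f using Finsupp.induction_linear with
    | zero => simp
    | add x y hx hy => simp only [map_add, hx, hy]
    | single s r =>
      rw [mkL1_single, ← map_smul, ← toL2_smul]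
      refine congrArg (fun y => α (toL2 P y)) (Subtype.ext ?_)
      show r • (e (Finsupp.single s 1) - Finsupp.single s 1) = e (Finsupp.single s r) - Finsupp.single s r
      rw [smul_sub, ← map_smul, Finsupp.smul_single_one]
  rw [key, ← map_sub, ← map_sub]
  exact congrArg (fun y => α (toL2 P y)) (Subtype.ext rfl)

theorem comp_toL2_smul (α : L2 P →ₗ[B] M) (r : P.toExtension.Ring) (q : relKer P) :
    α (toL2 P (r • q)) = algebraMap P.toExtension.Ring B r • α (toL2 P q) :=
  (congrArg α (toL2_smul r q)).trans (α.map_smul _ _)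

theorem comp_toL2_zero (α : L2 P →ₗ[B] M) (q : relKer P) (hq : (q : relMod P) ∈ trivRel P) :
    α (toL2 P q) = 0 :=
  (congrArg α (toL2_eq_zero_of_mem_trivRel hq)).trans α.map_zero

theorem bijective_T2pull (h : PresHom P P') (hτ : Function.Bijective h.ringHom) :
    Function.Bijective (h.T2pull M) := by
  let τ : P.toExtension.Ring ≃+* P'.toExtension.Ring := RingEquiv.ofBijective _ hτ
  have hτapply : ∀ x, τ x = h.ringHom x := fun _ => rfl
  have hu : ∀ s, ∃ u : relMod P, jmap P u = τ.symm (rel P' s) := by
    intro s
    rw [← LinearMap.mem_range, range_jmap]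
    have h1 := h.algebraMap_ringHom (τ.symm (rel P' s))
    rw [← hτapply, τ.apply_symm_apply, algebraMap_rel, Algebra.algebraMap_self, RingHom.id_apply] at h1
    exact h1.symm
  choose u hu using hu
  let g : relMod P' →+ relMod P :=
    (Finsupp.linearCombination P.toExtension.Ring u).toAddMonoidHom.comp
      (Finsupp.mapRange.addMonoidHom (τ.symm : P'.toExtension.Ring →+ P.toExtension.Ring))
  have hg1 : ∀ s r, g (Finsupp.single s r) = τ.symm r • u s := fun s r => by
    simp [g]
  have hgs : ∀ r f, g (r • f) = τ.symm r • g f := fun r f => by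
    induction f using Finsupp.induction_linear with
    | zero => simp
    | add x y hx hy => rw [smul_add, map_add, hx, hy, map_add, smul_add]
    | single s a => rw [Finsupp.smul_single, hg1, hg1, smul_eq_mul, map_mul, mul_smul]
  have hgj : ∀ f, jmap P (g f) = τ.symm (jmap P' f) := fun f => by
    induction f using Finsupp.induction_linear with
    | zero => simp
    | add x y hx hy => simp only [map_add, hx, hy]
    | single s a => rw [hg1, map_smul, hu, jmap_single, map_mul, smul_eq_mul]
  have hg0 : ∀ f ∈ trivRel P', g f ∈ trivRel P := by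
    intro f hf
    induction hf using Submodule.span_induction with
    | mem x hx =>
      obtain ⟨a, b, rfl⟩ := hx
      refine Submodule.subset_span ⟨g a, g b, ?_⟩
      rw [map_sub, hgs, hgs, hgj, hgj]
    | zero => simp
    | add x y _ _ hx hy => rw [map_add]; exact add_mem hx hy
    | smul r x _ hx => rw [hgs]; exact Submodule.smul_mem _ _ hx
  let gQ : relKer P' → relKer P := fun q => ⟨g q, by
    show jmap P _ = 0
    rw [hgj, show jmap P' (q : relMod P') = 0 from q.2, map_zero]⟩
  let e : relMod P →ₗ[P.toExtension.Ring] relMod P :=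
    { toFun := fun f => g (h.relModMap f)
      map_add' := fun x y => by rw [map_add, map_add]
      map_smul' := fun r f => by
        rw [LinearMap.map_smulₛₗ, hgs, ← hτapply, τ.symm_apply_apply, RingHom.id_apply] }
  let e' : relMod P' →ₗ[P'.toExtension.Ring] relMod P' :=
    { toFun := fun f => h.relModMap (g f)
      map_add' := fun x y => by rw [map_add, map_add]
      map_smul' := fun r f => by
        rw [hgs, LinearMap.map_smulₛₗ, ← hτapply, τ.apply_symm_apply, RingHom.id_apply] }
  have he : ∀ f, jmap P (e f) = jmap P f := fun f => by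
    show jmap P (g (h.relModMap f)) = _
    rw [hgj, PresHom.jmap_relModMap, ← hτapply, τ.symm_apply_apply]
  have he' : ∀ f, jmap P' (e' f) = jmap P' f := fun f => by
    show jmap P' (h.relModMap (g f)) = _
    rw [PresHom.jmap_relModMap, hgj, ← hτapply, τ.apply_symm_apply]
  constructor
  · rw [injective_iff_map_eq_zero]
    intro z hz
    obtain ⟨α, rfl⟩ := Submodule.Quotient.mk_surjective _ z
    obtain ⟨ψ, hψ : ψ ∘ₗ d2 P = h.pull2 M α⟩ := (Submodule.Quotient.mk_eq_zero _).1 hz
    obtain ⟨φ, hφ⟩ := exists_restriction_of_endo e' he' α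
    let χ : L1 P' →ₗ[B] M := mkL1 P' M fun s => ψ (toL1 P (u s))
    have hχ : ∀ f, χ (toL1 P' f) = ψ (toL1 P (g f)) := fun f => by
      induction f using Finsupp.induction_linear with
      | zero => simp
      | add x y hx hy => simp only [map_add, hx, hy]
      | single s r =>
        rw [mkL1_single, hg1, toL1_smul, map_smul]
        congr 1
        have h1 := h.algebraMap_ringHom (τ.symm r)
        rw [← hτapply, τ.apply_symm_apply, Algebra.algebraMap_self, RingHom.id_apply] at h1
        exact h1
    refine (Submodule.Quotient.mk_eq_zero _).2 ⟨χ - φ, L2_ext fun q => ?_⟩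
    show (χ - φ) (d2 P' (toL2 P' q)) = α (toL2 P' q)
    rw [d2_toL2, LinearMap.sub_apply, hφ, hχ]
    have h1 := LinearMap.congr_fun hψ (toL2 P (gQ q))
    rw [LinearMap.comp_apply, d2_toL2, PresHom.pull2_apply, L2map_toL2] at h1
    rw [show ψ (toL1 P (g q)) = α (toL2 P' ⟨e' q, (he' q).trans q.2⟩) from
      h1.trans (congrArg (fun y => α (toL2 P' y)) (Subtype.ext rfl)), sub_sub_cancel]
  · intro z
    obtain ⟨α, rfl⟩ := Submodule.Quotient.mk_surjective _ z
    have hgQs : ∀ (r : P'.toExtension.Ring) (q : relKer P'), gQ (r • q) = τ.symm r • gQ q := fun r q => by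
      apply Subtype.ext
      exact (hgs r (q : relMod P')).trans (Submodule.coe_smul (τ.symm r) (gQ q)).symm
    let β0 : relKer P' →+ M :=
      { toFun := fun q => α (toL2 P (gQ q))
        map_zero' := comp_toL2_zero α _ (by
          show g ((0 : relKer P') : relMod P') ∈ trivRel P
          rw [Submodule.coe_zero, map_zero]; exact zero_mem _)
        map_add' := fun x y => by
          rw [show gQ (x + y) = gQ x + gQ y from Subtype.ext (map_add g _ _), map_add, map_add] }
    let β : L2 P' →ₗ[B] M := mkL2 β0
      (fun r q => by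
        have h1 := h.algebraMap_ringHom (τ.symm r)
        rw [← hτapply, τ.apply_symm_apply, Algebra.algebraMap_self, RingHom.id_apply] at h1
        rw [h1]
        exact (congrArg (fun y => α (toL2 P y)) (hgQs r q)).trans (comp_toL2_smul α _ _))
      (fun q hq => comp_toL2_zero α (gQ q) (hg0 _ hq))
    obtain ⟨φ, hφ⟩ := exists_restriction_of_endo e he α
    refine ⟨Submodule.Quotient.mk β, (Submodule.Quotient.eq _).2 ⟨φ, L2_ext fun q => ?_⟩⟩
    show φ (d2 P (toL2 P q)) = β (h.L2map (toL2 P q)) - α (toL2 P q)
    rw [d2_toL2, hφ, L2map_toL2, mkL2_toL2]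
    rfl

end Groth.Agent.CotTLib
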