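import Groth.Agent.CotTLib.Lci
import Groth.Agent.CotTLib.Comparison
import Mathlib

/-!
# `T¹` detects formal smoothness
-/

universe u v w t m

open TensorProduct

noncomputable section

namespace Groth.Agent.CotTLib

open CotT

variable {A : Type u} {B : Type v} {ι : Type w} {σ : Type t}
variable [CommRing A] [CommRing B] [Algebra A B]
variable {P : Algebra.Presentation A B ι σ}

theorem formallySmooth_ring (P : Algebra.Presentation A B ι σ) : Algebra.FormallySmooth A P.toExtension.Ring :=
  inferInstanceAs (Algebra.FormallySmooth A (MvPolynomial ι A))

/-- For a formally smooth algebra `T¹` vanishes on every module. -/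
theorem subsingleton_T1_of_formallySmooth [Algebra.FormallySmooth A B] (M : Type m) [AddCommGroup M] [Module B M] :
    Subsingleton (T1 P M) := by
  have := formallySmooth_ring P
  obtain ⟨l, hl⟩ := P.toExtension.formallySmooth_iff_split_injection.1 ‹_›
  exact subsingleton_T1_iff.2 fun g => ⟨g ∘ₗ l, by rw [LinearMap.comp_assoc, hl, LinearMap.comp_id]⟩

/-- If `T¹(B/A, I/I²)` vanishes then `B` is formally smooth over `A`. -/
theorem formallySmooth_of_subsingleton_T1 (h : Subsingleton (T1 P P.toExtension.Cotangent)) :
    Algebra.FormallySmooth A B := by
  have := formallySmooth_ring P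
  obtain ⟨ψ, hψ⟩ := subsingleton_T1_iff.1 h LinearMap.id
  exact P.toExtension.formallySmooth_iff_split_injection.2 ⟨ψ, hψ⟩

/-- For a formally smooth algebra `I/I²` is projective. -/
theorem projective_cotangent [Algebra.FormallySmooth A B] : Module.Projective B P.toExtension.Cotangent := by
  have := formallySmooth_ring P
  obtain ⟨l, hl⟩ := P.toExtension.formallySmooth_iff_split_injection.1 ‹_›
  have : Module.Free B P.toExtension.CotangentSpace :=
    Module.Free.of_basis P.toGenerators.cotangentSpaceBasis
  exact Module.Projective.of_split P.toExtension.cotangentComplex l hl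

/-- The vanishing of `T¹` on every module does not depend on the presentation. -/
theorem subsingleton_T1_congr {ι' : Type*} {σ' : Type*} (P' : Algebra.Presentation A B ι' σ') (M : Type m)
    [AddCommGroup M] [Module B M] [Subsingleton (T1 P M)] : Subsingleton (T1 P' M) :=
  (T1equiv P' P M).toEquiv.subsingleton

/-- The vanishing of `T²` on every module does not depend on the presentation. -/
theorem subsingleton_T2_congr {ι' : Type*} {σ' : Type*} (P' : Algebra.Presentation A B ι' σ') (M : Type m)
    [AddCommGroup M] [Module B M] [Subsingleton (T2 P M)] : Subsingleton (T2 P' M) :=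
  (T2equiv P' P M).toEquiv.subsingleton

end Groth.Agent.CotTLib
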